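import Cfsg.Agent.Lib.Classical.CyclicNormalizer.Basic
import Cfsg.Agent.Lib.Classical.Dickson.PGLBase
import Cfsg.Agent.Lib.Lie.OddGraphPSL2

/-!
# Extensions of `PSL₂(q)`, `q` odd, in this class of groups lie in `PGL₂(q)`
-/

set_option autoImplicit false
set_option linter.unusedSectionVars false
set_option linter.style.haveILetI false

namespace Cfsg.Agent.Classical.CyclicNormalizer

open Subgroup Cfsg.Agent.Small

variable {G : Type*} [Group G] [Finite G] {F : Type} [Field F] [Fintype F]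

local notation "P2" => Matrix.ProjectiveSpecialLinearGroup (Fin 2) F
local notation "G2" => Matrix.ProjGenLinGroup (Fin 2) F
local notation "SL2" => Matrix.SpecialLinearGroup (Fin 2) F
local notation "toGL" => (Matrix.SpecialLinearGroup.toGL :
  Matrix.SpecialLinearGroup (Fin 2) F → GL (Fin 2) F)

variable (M : Subgroup G) [hMn : M.Normal] (e : ↥M ≃* Matrix.ProjectiveSpecialLinearGroup (Fin 2) F)

/-- The embedding of `PSL₂`. -/
noncomputable def emb : P2 →* G := M.subtype.comp e.symm.toMonoidHom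

/-- The action on `PSL₂`. -/
noncomputable def act : G →* MulAut P2 :=
  MonoidHom.mk' (fun g => e.symm.trans ((MulAut.conjNormal g).trans e)) fun a b => by
    ext p
    simp [map_mul]

theorem emb_inj : Function.Injective (emb M e) := M.subtype_injective.comp e.symm.injective

theorem emb_mem (p : P2) : emb M e p ∈ M := (e.symm p).2

theorem act_spec (g : G) (p : P2) : emb M e (act M e g p) = g * emb M e p * g⁻¹ := by
  simp [emb, act]

theorem act_emb (p : P2) : act M e (emb M e p) = MulAut.conj p := by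
  refine MulEquiv.ext fun q => emb_inj M e ?_
  rw [act_spec, MulAut.conj_apply, map_mul, map_mul, map_inv]

theorem act_inj (hCM : ∀ g, (∀ m ∈ M, Commute g m) → g = 1) : Function.Injective (act M e) := by
  rw [injective_iff_map_eq_one]
  intro g hg
  refine hCM g fun m hm => conj_iff_commute.1 ?_
  have h1 := act_spec M e g (e ⟨m, hm⟩)
  rw [hg, MulAut.one_apply] at h1
  simpa [emb] using h1.symm

theorem exists_comp (g : G) : ∃ σ : F ≃+* F, ∃ h, act M e g = PSL2.conjP h * PSL2.fieldP σ := by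
  obtain ⟨p, hp⟩ := CharP.exists F
  haveI : Fact p.Prime := ⟨CharP.char_is_prime F p⟩
  obtain ⟨n, -, hn⟩ := FiniteField.card F p
  obtain ⟨h, σ, he⟩ := PSL2.aut_eq hn (act M e g)
  exact ⟨σ, h, he⟩

/-- The field component. -/
noncomputable def fld : G →* (F ≃+* F) :=
  MonoidHom.mk' (fun g => (exists_comp M e g).choose) fun a b => by
    obtain ⟨h, hh⟩ := (exists_comp M e (a * b)).choose_spec
    obtain ⟨ha, hha⟩ := (exists_comp M e a).choose_spec
    obtain ⟨hb, hhb⟩ := (exists_comp M e b).choose_spec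
    obtain ⟨σ, hσ⟩ : ∃ σ, σ = (exists_comp M e (a * b)).choose := ⟨_, rfl⟩
    obtain ⟨σa, hσa⟩ : ∃ σ, σ = (exists_comp M e a).choose := ⟨_, rfl⟩
    obtain ⟨σb, hσb⟩ : ∃ σ, σ = (exists_comp M e b).choose := ⟨_, rfl⟩
    rw [← hσ] at hh
    rw [← hσa] at hha
    rw [← hσb] at hhb
    show (exists_comp M e (a * b)).choose = (exists_comp M e a).choose * (exists_comp M e b).choose
    rw [← hσ, ← hσa, ← hσb]
    refine PSL2.field_unique (g := h) (g' := ha * PSL2.glField σa hb) ?_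
    rw [← hh, map_mul (act M e), hha, hhb, map_mul PSL2.conjP, map_mul PSL2.fieldP, mul_assoc (PSL2.conjP ha),
      ← mul_assoc (PSL2.fieldP σa) (PSL2.conjP hb), PSL2.fieldP_conjP]
    group

theorem fld_spec (g : G) : ∃ h, act M e g = PSL2.conjP h * PSL2.fieldP (fld M e g) :=
  (exists_comp M e g).choose_spec

theorem fld_emb (p : P2) : fld M e (emb M e p) = 1 := by
  obtain ⟨h, hh⟩ := fld_spec M e (emb M e p)
  obtain ⟨A, rfl⟩ := PSL2.pr_surjective p
  refine PSL2.field_unique (g := h) (g' := toGL A) ?_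
  rw [← hh, act_emb, PSL2.conjP_toGL, map_one, mul_one]

/-- Conjugate into the centralizer of a given involution, keeping the field component. -/
theorem exists_fix {p : P2} (hp : orderOf p = 2) (g : G) :
    ∃ g', Commute g' (emb M e p) ∧ fld M e g' = fld M e g := by
  have h2 : orderOf (act M e g p) = 2 := by rw [MulEquiv.orderOf_eq]; exact hp
  obtain ⟨c, hc⟩ := isConj_iff.1 (Lie.OddGraphPSL2.involutions_isConj h2 hp)
  refine ⟨emb M e c * g, conj_iff_commute.1 ?_, by rw [map_mul, fld_emb, one_mul]⟩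
  rw [show emb M e c * g * emb M e p * (emb M e c * g)⁻¹ =
    emb M e c * (g * emb M e p * g⁻¹) * (emb M e c)⁻¹ by group, ← act_spec, ← map_inv, ← map_mul, ← map_mul, hc]

theorem pr_of_eq_smul {A B : SL2} {ε : F} (hε : ε * ε = 1) (hAB : A.1 = ε • B.1) :
    PSL2.pr A = PSL2.pr B := (PSL2.pr_eq_iff A B).2 ⟨ε, hε, hAB⟩

theorem sign_cases {ε : F} (hε : ε * ε = 1) : ε = 1 ∨ ε = -1 := mul_self_eq_one_iff.1 hε

theorem neg_one_ne (h2 : (2 : F) ≠ 0) : (-1 : F) ≠ 1 := fun e => h2 (by linear_combination -e)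

theorem pr_inv {A : SL2} (h2 : (2 : F) ≠ 0) (hA : A.1 * A.1 = -1) (h01 : A.1 0 1 ≠ 0 ∨ A.1 0 0 ≠ A.1 1 1) :
    orderOf (PSL2.pr A) = 2 := by
  refine Inv.orderOf ⟨?_, fun e => ?_⟩
  · rw [← map_mul, ← map_one PSL2.pr]
    refine pr_of_eq_smul (ε := -1) (by ring) ?_
    rw [Matrix.SpecialLinearGroup.coe_mul, hA, Matrix.SpecialLinearGroup.coe_one, neg_one_smul]
  · rw [← map_one PSL2.pr] at e
    obtain ⟨ε, -, hε⟩ := (PSL2.pr_eq_iff A 1).1 e
    rw [Matrix.SpecialLinearGroup.coe_one] at hε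
    rcases h01 with h | h
    · exact h (by rw [hε]; simp)
    · exact h (by rw [hε]; simp)

theorem wS_val : (PSL2.wS : SL2).1 = !![0, 1; -1, 0] := rfl

theorem hS_val (a : Fˣ) : (PSL2.hS a).1 = !![(a : F), 0; 0, (a : F)⁻¹] := rfl

theorem hS_inv (a : Fˣ) : (PSL2.hS a)⁻¹.1 = !![(a : F)⁻¹, 0; 0, (a : F)] := by
  rw [Matrix.SpecialLinearGroup.coe_inv, hS_val, Matrix.adjugate_fin_two_of]
  simp

theorem wS_inv : (PSL2.wS : SL2)⁻¹.1 = !![0, -1; 1, 0] := by
  rw [Matrix.SpecialLinearGroup.coe_inv, wS_val, Matrix.adjugate_fin_two_of]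
  simp

theorem five_trivial (h5 : Fintype.card F = 5) (σ : F ≃+* F) : σ = 1 := by
  haveI : Fact (Nat.Prime 5) := ⟨by norm_num⟩
  let φ : ZMod 5 ≃+* F := ZMod.ringEquivOfPrime F Fact.out h5
  refine RingEquiv.ext fun x => ?_
  obtain ⟨y, rfl⟩ := φ.surjective x
  exact RingHom.congr_fun (RingHom.ext_zmod ((σ : F →+* F).comp (φ : ZMod 5 →+* F)) (φ : ZMod 5 →+* F)) y

theorem exists_param (h2 : (2 : F) ≠ 0) (hq : 5 < Fintype.card F) :
    ∃ c d : F, c * c + d * d = 1 ∧ c ≠ 0 ∧ d ≠ 0 := by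
  classical
  obtain ⟨u, hu⟩ : ∃ u : Fˣ, u ^ 4 ≠ 1 := by
    by_contra hc
    push_neg at hc
    have h1 : Fintype.card Fˣ ≤ Fintype.card (rootsOfUnity 4 F) :=
      Fintype.card_le_of_injective (fun u => (⟨u, (mem_rootsOfUnity 4 u).2 (hc u)⟩ : rootsOfUnity 4 F))
        fun a b e' => congrArg (fun z : rootsOfUnity 4 F => (z : Fˣ)) e'
    have h4 := card_rootsOfUnity F 4
    rw [Fintype.card_units] at h1
    rw [Nat.card_eq_fintype_card] at h4
    omega
  have hu' : (u : F) ^ 4 ≠ 1 := fun e' => hu (Units.ext (by rw [Units.val_pow_eq_pow_val, e', Units.val_one]))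
  have hp : (1 : F) + (u : F) ^ 2 ≠ 0 := fun e' => hu' (by linear_combination ((u : F) ^ 2 - 1) * e')
  have hm : (1 : F) - (u : F) ^ 2 ≠ 0 := fun e' => hu' (by linear_combination (-(u : F) ^ 2 - 1) * e')
  refine ⟨(1 - (u : F) ^ 2) / (1 + (u : F) ^ 2), 2 * u / (1 + (u : F) ^ 2), ?_, div_ne_zero hm hp,
    div_ne_zero (mul_ne_zero h2 u.ne_zero) hp⟩
  field_simp
  ring

/-- No field component of odd prime order. -/
theorem no_odd (h : HCN G) (h2 : (2 : F) ≠ 0) (hq : 3 < Fintype.card F) {r : ℕ} (hr : r.Prime) (hro : r ≠ 2)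
    (g : G) : orderOf (fld M e g) ≠ r := by
  classical
  intro hg
  haveI : Fact r.Prime := ⟨hr⟩
  have hwS : (PSL2.wS : SL2).1 * (PSL2.wS : SL2).1 = -1 := by
    ext i j; fin_cases i <;> fin_cases j <;> simp [wS_val, wS_inv, Matrix.mul_apply, Fin.sum_univ_two]
  have hw2 : orderOf (PSL2.pr (PSL2.wS : SL2)) = 2 := pr_inv h2 hwS (Or.inl (by simp [PSL2.wS]))
  obtain ⟨g', hg't, hfg⟩ := exists_fix M e hw2 g
  obtain ⟨t, ht⟩ : ∃ t, t = emb M e (PSL2.pr (PSL2.wS : SL2)) := ⟨_, rfl⟩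
  rw [← ht] at hg't
  have htI : Inv t := inv_of_orderOf (by rw [ht, orderOf_injective _ (emb_inj M e), hw2])
  obtain ⟨k, m, hm, hkm⟩ := Nat.exists_eq_pow_mul_and_not_dvd (orderOf_pos g').ne' r hr.ne_one
  obtain ⟨y, hy⟩ : ∃ y, y = g' ^ m := ⟨_, rfl⟩
  have hyo : orderOf y = r ^ k := by
    rw [hy, orderOf_pow_of_dvd (by rintro rfl; exact hm (dvd_zero r)) (hkm ▸ dvd_mul_left m _), hkm,
      Nat.mul_div_cancel _ (Nat.pos_of_ne_zero (by rintro rfl; exact hm (dvd_zero r)))]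
  have hyodd : Odd (orderOf y) := hyo ▸ (hr.odd_of_ne_two hro).pow
  have hyU : y ∈ U t := (mem_U h htI).2 ⟨hy ▸ hg't.pow_left m, hyodd⟩
  have hσy : orderOf (fld M e y) = r := by
    rw [hy, map_pow, hfg]
    exact (Nat.Coprime.orderOf_pow (by rw [hg]; exact (hr.coprime_iff_not_dvd.2 hm))).trans hg
  -- the involution `s`
  obtain ⟨p, hp⟩ := CharP.exists F
  haveI : Fact p.Prime := ⟨CharP.char_is_prime F p⟩
  haveI : NeZero p := ⟨(CharP.char_is_prime F p).ne_zero⟩
  obtain ⟨a, b, hab⟩ := CharP.sq_add_sq F p (-1)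
  push_cast at hab
  obtain ⟨sM, hsM⟩ : ∃ sM : SL2, sM.1 = !![(a : F), (b : F); (b : F), -(a : F)] := ⟨⟨_, by
    rw [Matrix.det_fin_two]; simp; linear_combination -hab⟩, rfl⟩
  have hsne : (b : F) ≠ 0 ∨ (a : F) ≠ -(a : F) := by
    by_contra hc
    push_neg at hc
    have ha0 : (a : F) = 0 := by
      have : (2 : F) * a = 0 := by linear_combination hc.2
      exact (mul_eq_zero.1 this).resolve_left h2
    rw [hc.1, ha0] at hab
    simp at hab
  have hs2 : orderOf (PSL2.pr sM) = 2 := pr_inv h2 (by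
    ext i j; fin_cases i <;> fin_cases j <;> simp [hsM, Matrix.mul_apply, Fin.sum_univ_two] <;>
      first
        | linear_combination hab
        | ring) (by simpa [hsM] using hsne)
  obtain ⟨s, hs⟩ : ∃ s, s = emb M e (PSL2.pr sM) := ⟨_, rfl⟩
  have hsI : Inv s := inv_of_orderOf (by rw [hs, orderOf_injective _ (emb_inj M e), hs2])
  have hst : Commute s t := by
    rw [hs, ht, Commute, SemiconjBy, ← map_mul (emb M e), ← map_mul (emb M e), ← map_mul PSL2.pr, ← map_mul PSL2.pr]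
    refine congrArg (emb M e) (pr_of_eq_smul (ε := -1) (by ring) ?_)
    ext i j; fin_cases i <;> fin_cases j <;>
      simp [hsM, wS_val, Matrix.mul_apply, Fin.sum_univ_two]
  have hy1 : y ≠ 1 := fun e' => by rw [e', map_one, orderOf_one] at hσy; exact hr.ne_one hσy.symm
  have hsy : s * y * s⁻¹ ∈ zpowers y := (U_nz h htI hyU hy1).2 hst
  have hσs : fld M e (s * y * s⁻¹) = fld M e y := by
    rw [map_mul, map_mul, map_inv, hs, fld_emb]; group
  obtain ⟨y', hy'⟩ : ∃ y', y' = y * (s * y * s⁻¹) := ⟨_, rfl⟩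
  have hy'U : y' ∈ U t := hy' ▸ mul_mem hyU ((zpowers_le.2 hyU) hsy)
  have hy'1 : y' ≠ 1 := fun e' => by
    have h1 : fld M e y ^ 2 = 1 := by
      rw [pow_two]
      nth_rewrite 2 [← hσs]
      rw [← map_mul, ← hy', e', map_one]
    have := orderOf_dvd_of_pow_eq_one h1
    rw [hσy] at this
    exact hro ((Nat.prime_dvd_prime_iff_eq hr Nat.prime_two).1 this)
  have hsy' : Commute y' s := by
    refine (conj_iff_commute.1 ?_).symm
    have h1 : s * (s * y * s⁻¹) * s⁻¹ = y := by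
      rw [show s * (s * y * s⁻¹) * s⁻¹ = s * s * y * (s * s)⁻¹ by group, hsI.1]; group
    rw [hy', show s * (y * (s * y * s⁻¹)) * s⁻¹ = (s * y * s⁻¹) * (s * (s * y * s⁻¹) * s⁻¹) by group, h1]
    obtain ⟨i, hi⟩ := mem_zpowers_iff.1 hsy
    rw [← hi, (Commute.zpow_self y i).eq]
  -- an element centralizing `t` but not `s`
  have hq5 : 5 < Fintype.card F := by
    by_contra hc
    have h5 : Fintype.card F = 5 ∨ Fintype.card F = 4 := by omega
    rcases h5 with h5 | h5
    · rw [five_trivial h5 (fld M e g), orderOf_one] at hg; exact hr.ne_one hg.symm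
    · have h4 : ((4 : ℕ) : F) = 0 := by rw [← h5]; exact Nat.cast_card_eq_zero F
      push_cast at h4
      exact h2 (mul_self_eq_zero.1 (by linear_combination h4))
  obtain ⟨c, d, hcd, hc0, hd0⟩ := exists_param h2 hq5
  obtain ⟨kM, hkM⟩ : ∃ kM : SL2, kM.1 = !![c, d; -d, c] :=
    ⟨⟨_, by rw [Matrix.det_fin_two]; simp; linear_combination hcd⟩, rfl⟩
  have hkt : Commute (emb M e (PSL2.pr kM)) t := by
    rw [ht, Commute, SemiconjBy, ← map_mul (emb M e), ← map_mul (emb M e), ← map_mul PSL2.pr, ← map_mul PSL2.pr]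
    refine congrArg (emb M e) (congrArg PSL2.pr (Subtype.ext ?_))
    ext i j; fin_cases i <;> fin_cases j <;>
      simp [hkM, wS_val, Matrix.mul_apply, Fin.sum_univ_two]
  have hks := (cent_eq' h htI hsI hy'U hy'1 hsy' _).2 hkt
  rw [hs, Commute, SemiconjBy, ← map_mul (emb M e), ← map_mul (emb M e), ← map_mul PSL2.pr,
    ← map_mul PSL2.pr] at hks
  obtain ⟨ε, hε, hAB⟩ := (PSL2.pr_eq_iff _ _).1 (emb_inj M e hks)
  have e00 := congrFun (congrFun hAB 0) 0
  have e01 := congrFun (congrFun hAB 0) 1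
  simp [hsM, hkM, Matrix.mul_apply, Fin.sum_univ_two] at e00 e01
  rcases sign_cases hε with he | he <;> rw [he] at e00 e01
  · have hb : (2 : F) * d * b = 0 := by linear_combination e00
    have ha : (2 : F) * d * a = 0 := by linear_combination -e01
    have hb0 := (mul_eq_zero.1 hb).resolve_left (mul_ne_zero h2 hd0)
    have ha0 := (mul_eq_zero.1 ha).resolve_left (mul_ne_zero h2 hd0)
    rw [ha0, hb0] at hab
    simp at hab
  · have hb : (2 : F) * c * b = 0 := by linear_combination e01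
    have ha : (2 : F) * c * a = 0 := by linear_combination e00
    have hb0 := (mul_eq_zero.1 hb).resolve_left (mul_ne_zero h2 hc0)
    have ha0 := (mul_eq_zero.1 ha).resolve_left (mul_ne_zero h2 hc0)
    rw [ha0, hb0] at hab
    simp at hab

/-- The unit `σ d`. -/
noncomputable def uMap (σ : F ≃+* F) : Fˣ →* Fˣ := Units.map (σ : F →+* F).toMonoidHom

@[simp] theorem uMap_val (σ : F ≃+* F) (d : Fˣ) : ((uMap σ d : Fˣ) : F) = σ d := rfl

theorem prod_val (σ : F ≃+* F) (A B : SL2) (d : Fˣ) :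
    (toGL A * PSL2.dGL d * PSL2.glField σ (toGL B)).val = A.1 * !![(d : F), 0; 0, 1] * B.1.map σ := rfl

theorem glField_dGL (σ : F ≃+* F) (d : Fˣ) : PSL2.glField σ (PSL2.dGL d) = PSL2.dGL (uMap σ d) := by
  apply Units.ext
  ext i j
  fin_cases i <;> fin_cases j <;> simp [PSL2.glField, PSL2.dGL]

theorem diag_eq {X : GL (Fin 2) F} {Y : Fˣ} (h : PSL2.conjP X = PSL2.conjP (PSL2.dGL Y)) :
    X.val 0 0 = (Y : F) * X.val 1 1 := by
  have h1 : PSL2.conjP ((PSL2.dGL Y⁻¹) * X) = 1 := by rw [map_mul, h, ← map_mul, ← map_mul, inv_mul_cancel,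
    map_one, map_one]
  have h2 := PSL2.scalar_of_conjP_eq_one h1
  have h3 := congrFun (congrFun h2 1) 1
  simp [PSL2.dGL, Matrix.mul_apply, Fin.sum_univ_two] at h3
  rw [h3]
  simp

theorem conjP_dGL_inj {Y : Fˣ} (h : PSL2.conjP (PSL2.dGL Y) = 1) : Y = 1 := by
  have := diag_eq (X := 1) (Y := Y) (by rw [map_one, h])
  simp at this
  exact Units.ext this.symm

theorem conjP_dGL_vS (d : Fˣ) (y : F) :
    PSL2.conjP (PSL2.dGL d) (PSL2.pr (PSL2.vS y)) = PSL2.pr (PSL2.vS (((d⁻¹ : Fˣ) : F) * y)) := by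
  rw [PSL2.conjP_apply]
  refine congrArg PSL2.pr (Subtype.ext ?_)
  rw [PSL2.conjSL_val]
  ext i j
  fin_cases i <;> fin_cases j <;> simp [PSL2.dGL, PSL2.vS, Matrix.mul_apply, Fin.sum_univ_two] <;> ring

theorem fieldP_vS (σ : F ≃+* F) (y : F) : PSL2.fieldP σ (PSL2.pr (PSL2.vS y)) = PSL2.pr (PSL2.vS (σ y)) := by
  rw [PSL2.fieldP_apply]
  refine congrArg PSL2.pr (Subtype.ext ?_)
  ext i j
  rw [PSL2.fieldSL_apply]
  fin_cases i <;> fin_cases j <;> simp [PSL2.vS]

theorem uS_pow (x : F) (n : ℕ) : PSL2.uS x ^ n = PSL2.uS ((n : F) * x) := by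
  induction n with
  | zero => rw [pow_zero]; apply Subtype.ext; simp [PSL2.uS, Matrix.one_fin_two]
  | succ n ih => rw [pow_succ, ih, ← PSL2.uS_add]; congr 1; push_cast; ring

theorem vS_pow (x : F) (n : ℕ) : PSL2.vS x ^ n = PSL2.vS ((n : F) * x) := by
  induction n with
  | zero => rw [pow_zero]; apply Subtype.ext; simp [PSL2.vS, Matrix.one_fin_two]
  | succ n ih =>
    rw [pow_succ, ih]
    apply Subtype.ext
    rw [Matrix.SpecialLinearGroup.coe_mul]
    ext a b
    fin_cases a <;> fin_cases b <;> simp [PSL2.vS, Matrix.mul_apply, Fin.sum_univ_two, add_mul]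

/-- The fixed field of an involutory automorphism has square root order. -/
theorem card_fixed (h2 : (2 : F) ≠ 0) {σ : F ≃+* F} (hσ : ∀ x, σ (σ x) = x) {x₀ : F} (hx₀ : σ x₀ ≠ x₀) :
    Fintype.card F = Nat.card {x : F // σ x = x} * Nat.card {x : F // σ x = x} := by
  classical
  obtain ⟨θ, hθ⟩ : ∃ θ, θ = x₀ - σ x₀ := ⟨_, rfl⟩
  have hθ0 : θ ≠ 0 := fun e' => hx₀ (sub_eq_zero.1 (hθ ▸ e')).symm
  have hσθ : σ θ = -θ := by rw [hθ, map_sub, hσ]; ring
  rw [← Nat.card_prod, ← Nat.card_eq_fintype_card]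
  have hinv2 : σ (2 : F) = 2 := map_ofNat σ 2
  refine Nat.card_congr
    { toFun := fun x => (⟨(x + σ x) / 2, by rw [map_div₀, map_add, hσ, hinv2, add_comm]⟩,
        ⟨(x - σ x) / (2 * θ), by
          rw [map_div₀, map_sub, hσ, map_mul, hinv2, hσθ, mul_neg, div_neg, ← neg_div, neg_sub]⟩)
      invFun := fun p => p.1 + p.2 * θ
      left_inv := fun x => by simp only; field_simp; ring
      right_inv := fun p => by
        obtain ⟨⟨a, ha⟩, b, hb⟩ := p
        ext <;> simp only [map_add, map_mul, ha, hb, hσθ] <;> field_simp <;> ring }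

/-- No field component of order two. -/
theorem no_two (h : HCN G) (hCM : ∀ g, (∀ m ∈ M, Commute g m) → g = 1) (h2 : (2 : F) ≠ 0) (g : G) :
    orderOf (fld M e g) ≠ 2 := by
  classical
  intro hg
  obtain ⟨σ, hσ⟩ : ∃ σ, σ = fld M e g := ⟨_, rfl⟩
  have hσσ : σ * σ = 1 := by rw [← pow_two, hσ, ← hg, pow_orderOf_eq_one]
  have hσ2 : ∀ x, σ (σ x) = x := fun x => congrArg (fun τ : F ≃+* F => τ x) hσσ
  have hσ1 : σ ≠ 1 := fun e' => by rw [← hσ, e', orderOf_one] at hg; omega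
  obtain ⟨x₀, hx₀⟩ : ∃ x, σ x ≠ x := by
    by_contra hc; push_neg at hc; exact hσ1 (RingEquiv.ext hc)
  have hK := card_fixed h2 hσ2 hx₀
  obtain ⟨k, hk⟩ : ∃ k, k = Nat.card {x : F // σ x = x} := ⟨_, rfl⟩
  rw [← hk] at hK
  have hFodd : Fintype.card F % 2 = 1 := by
    obtain ⟨p, hp⟩ := CharP.exists F
    obtain ⟨n, hpp, hn⟩ := FiniteField.card F p
    haveI := hp
    have hp2 : p ≠ 2 := fun e' => h2 (by
      have := CharP.cast_eq_zero F p; rw [e'] at this; exact_mod_cast this)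
    rw [hn]; exact Nat.odd_iff.1 (hpp.odd_of_ne_two hp2).pow
  have hkodd : k % 2 = 1 := by
    rcases Nat.mod_two_eq_zero_or_one k with h0 | h0
    · rw [hK, Nat.mul_mod, h0] at hFodd; simp at hFodd
    · exact h0
  obtain ⟨i, hi⟩ : IsSquare (-1 : F) := by
    rw [FiniteField.isSquare_neg_one_iff, hK, Nat.mul_mod]
    rcases (show k % 4 = 1 ∨ k % 4 = 3 by omega) with h4 | h4 <;> rw [h4] <;> norm_num
  have hi0 : i ≠ 0 := fun e' => by rw [e', mul_zero] at hi; exact neg_ne_zero.2 one_ne_zero hi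
  obtain ⟨iu, hiu⟩ : ∃ iu : Fˣ, (iu : F) = i := ⟨Units.mk0 i hi0, rfl⟩
  have hii : i⁻¹ = -i := inv_eq_of_mul_eq_one_right (by rw [mul_neg, ← hi, neg_neg])
  have hiI : orderOf (PSL2.pr (PSL2.hS iu)) = 2 := pr_inv h2 (by
    ext a b; fin_cases a <;> fin_cases b <;>
      simp [hS_val, hS_inv, Matrix.mul_apply, Fin.sum_univ_two, hiu, hii, ← hi]) (Or.inr (by
    simp [hS_val, hS_inv, hiu, hii]
    exact fun e' => mul_ne_zero h2 hi0 (by linear_combination e')))
  obtain ⟨g₁, hg₁t, hfg₁⟩ := exists_fix M e hiI g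
  rw [← hσ] at hfg₁
  obtain ⟨h₁, hh₁⟩ := fld_spec M e g₁
  rw [hfg₁] at hh₁
  have hfix : act M e g₁ (PSL2.pr (PSL2.hS iu)) = PSL2.pr (PSL2.hS iu) := emb_inj M e (by
    rw [act_spec, conj_iff_commute.2 hg₁t])
  have hσi : σ i = i ∨ σ i = -i := by
    have e' : σ i * σ i = i * i := by rw [← map_mul, ← hi, map_neg, map_one]
    exact mul_self_eq_mul_self_iff.1 e'
  have hfσ : PSL2.fieldP σ (PSL2.pr (PSL2.hS iu)) = PSL2.pr (PSL2.hS iu) := by
    rw [PSL2.fieldP_apply]
    rcases hσi with e' | e'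
    · refine congrArg PSL2.pr (Subtype.ext ?_)
      ext a b
      rw [PSL2.fieldSL_apply]
      fin_cases a <;> fin_cases b <;> simp [hS_val, hS_inv, hiu, e']
    · refine pr_of_eq_smul (ε := -1) (by ring) ?_
      ext a b
      rw [PSL2.fieldSL_apply]
      fin_cases a <;> fin_cases b <;> simp [hS_val, hS_inv, hiu, e', hii]
  rw [hh₁, MulAut.mul_apply, hfσ, PSL2.conjP_apply] at hfix
  obtain ⟨ε, hε, hD⟩ := (PSL2.pr_eq_iff _ _).1 hfix
  rw [PSL2.conjSL_val] at hD
  have hD' : h₁.val * (PSL2.hS iu).1 = (ε • (PSL2.hS iu).1) * h₁.val := by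
    rw [← hD, mul_assoc _ _ h₁.val, Units.inv_mul, mul_one]
  have e00 := congrFun (congrFun hD' 0) 0
  have e01 := congrFun (congrFun hD' 0) 1
  have e10 := congrFun (congrFun hD' 1) 0
  have e11 := congrFun (congrFun hD' 1) 1
  simp [hS_val, hS_inv, Matrix.mul_apply, Fin.sum_univ_two, hiu, hii] at e00 e01 e10 e11
  have h2i : (2 : F) * i ≠ 0 := mul_ne_zero h2 hi0
  have hdet : h₁.val 0 0 * h₁.val 1 1 - h₁.val 0 1 * h₁.val 1 0 ≠ 0 := by
    rw [← Matrix.det_fin_two]
    exact ((Matrix.isUnit_iff_isUnit_det _).1 h₁.isUnit).ne_zero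
  -- a diagonal representative
  obtain ⟨g₂, h₂, hh₂, hb, hc⟩ : ∃ g₂, ∃ h₂ : GL (Fin 2) F,
      act M e g₂ = PSL2.conjP h₂ * PSL2.fieldP σ ∧ h₂.val 0 1 = 0 ∧ h₂.val 1 0 = 0 := by
    rcases sign_cases hε with he | he <;> rw [he] at e00 e01 e10 e11
    · exact ⟨g₁, h₁, hh₁,
        (mul_eq_zero.1 (show (2 : F) * i * h₁.val 0 1 = 0 by linear_combination -e01)).resolve_left h2i,
        (mul_eq_zero.1 (show (2 : F) * i * h₁.val 1 0 = 0 by linear_combination e10)).resolve_left h2i⟩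
    · have ha := (mul_eq_zero.1 (show (2 : F) * i * h₁.val 0 0 = 0 by linear_combination e00)).resolve_left h2i
      have hd := (mul_eq_zero.1 (show (2 : F) * i * h₁.val 1 1 = 0 by linear_combination e11)).resolve_left h2i
      refine ⟨emb M e (PSL2.pr PSL2.wS) * g₁, toGL PSL2.wS * h₁, ?_, ?_, ?_⟩
      · rw [map_mul, act_emb, hh₁, ← PSL2.conjP_toGL, map_mul PSL2.conjP, mul_assoc]
      · simp [wS_val, wS_inv, Matrix.mul_apply, Fin.sum_univ_two, hd]
      · simp [wS_val, wS_inv, Matrix.mul_apply, Fin.sum_univ_two, ha]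
  have hdet2 : h₂.val 0 0 * h₂.val 1 1 ≠ 0 := by
    have := ((Matrix.isUnit_iff_isUnit_det _).1 h₂.isUnit).ne_zero
    rwa [Matrix.det_fin_two, hb, zero_mul, sub_zero] at this
  obtain ⟨u₁, hu₁⟩ : ∃ u : Fˣ, (u : F) = h₂.val 1 1 := ⟨Units.mk0 _ (right_ne_zero_of_mul hdet2), rfl⟩
  obtain ⟨u₀, hu₀⟩ : ∃ u : Fˣ, (u : F) = h₂.val 0 0 := ⟨Units.mk0 _ (left_ne_zero_of_mul hdet2), rfl⟩
  obtain ⟨d, hd⟩ : ∃ d : Fˣ, d = u₀ * u₁⁻¹ := ⟨_, rfl⟩
  have hg₂ : act M e g₂ = PSL2.conjP (PSL2.dGL d) * PSL2.fieldP σ := by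
    rw [hh₂]
    congr 1
    have hX : h₂ = Matrix.GeneralLinearGroup.scalar (Fin 2) u₁ * PSL2.dGL d := by
      apply Units.ext
      ext a b
      fin_cases a <;> fin_cases b <;> simp [PSL2.dGL, hd, hb, hc, ← hu₀, ← hu₁, mul_comm] <;> field_simp
    rw [hX, map_mul]
    refine MulEquiv.ext fun y => ?_
    rw [MulAut.mul_apply, Dickson.conjP_scalar]
  have hinj := act_inj M e hCM
  obtain ⟨N, hN⟩ : ∃ N : Fˣ, N = d * uMap σ d := ⟨_, rfl⟩
  have hσN : uMap σ N = N := by
    apply Units.ext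
    rw [hN]
    simp [map_mul, hσ2, mul_comm]
  have hsq : act M e (g₂ * g₂) = PSL2.conjP (PSL2.dGL N) := by
    rw [map_mul, hg₂, show ∀ a b : MulAut P2, a * b * (a * b) = a * (b * a) * b from fun a b => by group,
      PSL2.fieldP_conjP, glField_dGL, hN, map_mul PSL2.dGL, map_mul PSL2.conjP, ← mul_assoc, mul_assoc _ _ (PSL2.fieldP σ),
      ← map_mul PSL2.fieldP, hσσ, map_one, mul_one]
  have hev : ∀ l : ℕ, act M e (g₂ ^ (2 * l)) = PSL2.conjP (PSL2.dGL (N ^ l)) := fun l => by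
    rw [pow_mul, pow_two, map_pow, hsq, ← map_pow, ← map_pow]
  have hod : ∀ l : ℕ, act M e (g₂ ^ (2 * l + 1)) = PSL2.conjP (PSL2.dGL (N ^ l * d)) * PSL2.fieldP σ := fun l => by
    rw [pow_succ, map_mul, hev, hg₂, map_mul PSL2.dGL, map_mul PSL2.conjP, mul_assoc]
  have hfld₂ : fld M e g₂ = σ := by
    obtain ⟨h₃, hh₃⟩ := fld_spec M e g₂
    exact PSL2.field_unique (hh₃.symm.trans hg₂)
  obtain ⟨m, hm⟩ : ∃ m, m = orderOf N := ⟨_, rfl⟩
  have hNm : N ^ m = 1 := hm ▸ pow_orderOf_eq_one N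
  rcases Nat.even_or_odd' m with ⟨l, hl | hl⟩
  swap
  · -- `m` odd
    obtain ⟨v, hv⟩ : ∃ v, v = g₂ ^ m := ⟨_, rfl⟩
    have hvI : Inv v := by
      refine ⟨hinj ?_, fun e' => hσ1 ?_⟩
      · rw [hv, ← pow_add, ← two_mul, hev, hNm, map_one, map_one, map_one]
      · have := congrArg (fld M e) e'
        rw [hv, map_pow, hfld₂, map_one, hl, pow_succ, pow_mul, pow_two, hσσ, one_pow, one_mul] at this
        exact this
    obtain ⟨d', hd'⟩ : ∃ d' : Fˣ, d' = N ^ l * d := ⟨_, rfl⟩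
    have hdd : (d' : F) * σ d' = 1 := by
      have h1 : d' * uMap σ d' = 1 := by
        rw [hd', map_mul, map_pow, hσN, show N ^ l * d * (N ^ l * uMap σ d) = N ^ l * N ^ l * (d * uMap σ d) by ac_rfl,
          ← hN, ← pow_add, ← two_mul, ← pow_succ, ← hl, hNm]
      have := congrArg Units.val h1
      simpa using this
    obtain ⟨a, ha⟩ : ∃ a : F, a + (d' : F) * σ a ≠ 0 := by
      by_contra hc
      push_neg at hc
      have h1 := hc 1
      rw [map_one, mul_one] at h1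
      exact hσ1 (RingEquiv.ext fun a => by
        have := hc a
        rw [eq_neg_of_add_eq_zero_right h1] at this
        rw [RingAut.one_apply]
        linear_combination -this)
    obtain ⟨x, hx⟩ : ∃ x, x = a + (d' : F) * σ a := ⟨_, rfl⟩
    rw [← hx] at ha
    have hfx : (d' : F) * σ x = x := by
      rw [hx, map_add, map_mul, hσ2, mul_add, ← mul_assoc, hdd, one_mul, add_comm]
    have hvact : act M e v = PSL2.conjP (PSL2.dGL d') * PSL2.fieldP σ := by rw [hv, hl, hod, hd']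
    have hcu : Commute (emb M e (PSL2.pr (PSL2.uS x))) v := by
      refine (conj_iff_commute.1 ?_).symm
      rw [← act_spec, hvact, MulAut.mul_apply, PSL2.fieldP_uS, PSL2.conjP_dGL_uS, hfx]
    have hcv : Commute (emb M e (PSL2.pr (PSL2.vS x⁻¹))) v := by
      refine (conj_iff_commute.1 ?_).symm
      rw [← act_spec, hvact, MulAut.mul_apply, fieldP_vS, conjP_dGL_vS, map_inv₀, Units.val_inv_eq_inv_val,
        ← mul_inv, hfx]
    have hodd : ∀ y : SL2, y ^ Fintype.card F = 1 → Odd (orderOf (emb M e (PSL2.pr y))) := fun y hy =>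
      (Nat.odd_iff.2 hFodd).of_dvd_nat (orderOf_dvd_of_pow_eq_one (by
        rw [← map_pow, ← map_pow, hy, map_one, map_one]))
    have hu := (mem_U h hvI).2 ⟨hcu, hodd _ (by
      rw [uS_pow, Nat.cast_card_eq_zero, zero_mul]; apply Subtype.ext; simp [PSL2.uS, Matrix.one_fin_two])⟩
    have hv' := (mem_U h hvI).2 ⟨hcv, hodd _ (by
      rw [vS_pow, Nat.cast_card_eq_zero, zero_mul]; apply Subtype.ext; simp [PSL2.vS, Matrix.one_fin_two])⟩
    have hcom : Commute (PSL2.pr (PSL2.vS x⁻¹)) (PSL2.pr (PSL2.uS x)) := emb_inj M e (by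
      rw [map_mul, map_mul]; exact U_comm h hvI hv' hu)
    obtain ⟨z, hz⟩ := (PSL2.mem_U _).1 (PSL2.mem_U_of_commute ha hcom)
    exact PSL2.pr_vS_ne_uS (inv_ne_zero ha) z hz.symm
  -- `m` even
  have hl0 : 0 < l := by
    have := orderOf_pos N; omega
  have hNl : N ^ l = -1 := by
    have h1 : ((N ^ l : Fˣ) : F) * ((N ^ l : Fˣ) : F) = 1 := by
      rw [← Units.val_mul, ← pow_add, ← two_mul, ← hl, hNm, Units.val_one]
    rcases mul_self_eq_one_iff.1 h1 with e' | e'
    · exact absurd (Units.ext e' : N ^ l = 1) (pow_ne_one_of_lt_orderOf hl0.ne' (by omega))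
    · exact Units.ext (by rw [Units.val_neg, Units.val_one]; exact e')
  obtain ⟨t, ht⟩ : ∃ t, t = emb M e (PSL2.pr (PSL2.hS iu)) := ⟨_, rfl⟩
  have htI : Inv t := inv_of_orderOf (by rw [ht, orderOf_injective _ (emb_inj M e), hiI])
  have htg : t ∈ zpowers g₂ := by
    have e' : g₂ ^ (2 * l) = t := hinj (by
      rw [hev, hNl, ht, act_emb, ← PSL2.conjP_toGL]
      have hX : toGL (PSL2.hS iu) = Matrix.GeneralLinearGroup.scalar (Fin 2) (-iu) * PSL2.dGL (-1) := by
        apply Units.ext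
        ext a b
        fin_cases a <;> fin_cases b <;> simp [PSL2.dGL, hS_val, hS_inv, hiu, hii]
      rw [hX, map_mul]
      refine MulEquiv.ext fun y => ?_
      rw [MulAut.mul_apply, Dickson.conjP_scalar])
    exact e' ▸ pow_mem (mem_zpowers g₂) _
  have key : ∀ A : SL2, Commute (emb M e (PSL2.pr A)) t → ∃ j : ℕ,
      PSL2.conjP (toGL A * PSL2.dGL d * PSL2.glField σ (toGL A⁻¹)) = PSL2.conjP (PSL2.dGL (N ^ j * d)) := by
    intro A hA
    have h1 := (nz_root h htI htg _).2 hA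
    rw [Nz, mem_zpowers_iff_mem_range_orderOf, Finset.mem_image] at h1
    obtain ⟨j, -, hj⟩ := h1
    rcases Nat.even_or_odd' j with ⟨j', hj' | hj'⟩
    · exfalso
      have := congrArg (fld M e) hj
      rw [hj', map_pow, pow_mul, pow_two, hfld₂, hσσ, one_pow, map_mul, map_mul, map_inv, fld_emb, hfld₂] at this
      exact hσ1 (by rw [this]; group)
    · refine ⟨j', mul_right_cancel (b := PSL2.fieldP σ) ?_⟩
      rw [← hod, ← hj', hj, map_mul (act M e), map_mul (act M e), ← map_inv (emb M e), act_emb, act_emb, hg₂, ← map_inv (PSL2.pr (F := F)),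
        ← PSL2.conjP_toGL, ← PSL2.conjP_toGL, map_mul PSL2.conjP, map_mul PSL2.conjP,
        mul_assoc _ (PSL2.conjP (PSL2.glField σ (toGL A⁻¹))), ← PSL2.fieldP_conjP]
      simp only [mul_assoc]
  have hwt : Commute (emb M e (PSL2.pr (PSL2.wS : SL2))) t := by
    rw [ht, Commute, SemiconjBy, ← map_mul (emb M e), ← map_mul (emb M e), ← map_mul PSL2.pr, ← map_mul PSL2.pr]
    refine congrArg (emb M e) (pr_of_eq_smul (ε := -1) (by ring) ?_)
    ext a b; fin_cases a <;> fin_cases b <;>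
      simp [hS_val, hS_inv, wS_val, wS_inv, Matrix.mul_apply, Fin.sum_univ_two, hiu, hii]
  have hσNj : ∀ j : ℕ, σ ((N ^ j : Fˣ) : F) = ((N ^ j : Fˣ) : F) := fun j => by
    rw [← uMap_val, map_pow, hσN]
  have hd2 : σ ((d : F) * d) = (d : F) * d := by
    obtain ⟨j, hj⟩ := key _ hwt
    have h1 := diag_eq hj
    rw [prod_val, wS_inv] at h1
    simp [wS_val, wS_inv, PSL2.dGL, PSL2.glField, Matrix.mul_apply, Fin.sum_univ_two] at h1
    have hu : (d : F) * d = ((N ^ j : Fˣ) : F)⁻¹ := by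
      refine eq_inv_of_mul_eq_one_left ?_
      rw [Units.val_pow_eq_pow_val]
      linear_combination -h1
    rw [hu, map_inv₀, hσNj]
  have hquad : ∀ x : Fˣ, (x * (uMap σ x)⁻¹) ^ 4 = 1 := by
    intro x
    have hxt : Commute (emb M e (PSL2.pr (PSL2.hS x))) t := by
      rw [ht, Commute, SemiconjBy, ← map_mul (emb M e), ← map_mul (emb M e), ← map_mul PSL2.pr, ← map_mul PSL2.pr]
      refine congrArg (emb M e) (congrArg PSL2.pr (Subtype.ext ?_))
      ext a b; fin_cases a <;> fin_cases b <;>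
        simp [hS_val, hS_inv, Matrix.mul_apply, Fin.sum_univ_two, mul_comm]
    obtain ⟨j, hj⟩ := key _ hxt
    have h1 := diag_eq hj
    rw [prod_val, hS_inv] at h1
    simp [hS_val, hS_inv, PSL2.dGL, PSL2.glField, Matrix.mul_apply, Fin.sum_univ_two, map_inv₀] at h1
    have hσx : σ (x : F) ≠ 0 := by simp
    have hf : ((x : F) / σ x) ^ 2 = ((N ^ j : Fˣ) : F) := by
      rw [Units.val_pow_eq_pow_val]
      field_simp at h1 ⊢
      linear_combination h1
    have hf' : (σ x / (x : F)) ^ 2 = ((N ^ j : Fˣ) : F) := by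
      have := congrArg σ hf
      rwa [map_pow, map_div₀, hσ2, hσNj] at this
    apply Units.ext
    rw [Units.val_pow_eq_pow_val, Units.val_mul, Units.val_inv_eq_inv_val, uMap_val, Units.val_one,
      ← div_eq_mul_inv]
    calc ((x : F) / σ x) ^ 4 = ((x : F) / σ x) ^ 2 * ((x : F) / σ x) ^ 2 := by ring
      _ = ((x : F) / σ x) ^ 2 * (σ x / (x : F)) ^ 2 := by rw [hf', hf]
      _ = 1 := by field_simp
  let φ : Fˣ →* Fˣ := MonoidHom.mk' (fun x => x * (uMap σ x)⁻¹) fun a b => by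
    rw [map_mul, mul_inv]; ac_rfl
  have hrange : Nat.card φ.range ≤ 4 := by
    refine le_trans (Nat.card_le_card_of_injective
      (fun y : φ.range => (⟨(y : Fˣ), (mem_rootsOfUnity 4 _).2 (by
        obtain ⟨z, hz⟩ := y.2
        rw [← hz]; exact hquad z)⟩ : rootsOfUnity 4 F)) ?_) ?_
    · exact fun a b e' => Subtype.ext (congrArg (fun z : rootsOfUnity 4 F => (z : Fˣ)) e')
    · exact card_rootsOfUnity F 4
  have hker : Nat.card φ.ker + 1 ≤ k := by
    rw [hk]
    have hlt : Nat.card φ.ker < Nat.card {x : F // σ x = x} := by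
      haveI := Fintype.ofFinite φ.ker
      rw [Nat.card_eq_fintype_card, Nat.card_eq_fintype_card]
      refine Fintype.card_lt_of_injective_of_notMem
        (fun y => (⟨((y : Fˣ) : F), (congrArg Units.val (mul_inv_eq_one.1 (MonoidHom.mem_ker.1 y.2))).symm⟩ :
          {x : F // σ x = x})) (fun a b e' => Subtype.ext (Units.ext (congrArg Subtype.val e')))
        (b := ⟨0, map_zero σ⟩) ?_
      rintro ⟨y, hy⟩
      exact (y : Fˣ).ne_zero (congrArg Subtype.val hy)
    omega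
  have hcard : Fintype.card F ≤ 4 * (k - 1) + 1 := by
    have h1 := Subgroup.card_mul_index φ.ker
    rw [Subgroup.index_ker, Nat.card_eq_fintype_card (α := Fˣ), Fintype.card_units] at h1
    have h2' : Nat.card φ.ker * Nat.card φ.range ≤ (k - 1) * 4 := Nat.mul_le_mul (by omega) hrange
    omega
  have hk3 : k = 3 := by
    have hk2 : 2 ≤ k := by
      rw [hk, Nat.card_eq_fintype_card]
      exact Fintype.one_lt_card_iff.2 ⟨⟨0, map_zero σ⟩, ⟨1, map_one σ⟩, fun e' => zero_ne_one (congrArg Subtype.val e')⟩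
    rw [hK] at hcard
    have : k ≤ 3 := by
      by_contra hc
      have : 4 * k ≤ k * k := Nat.mul_le_mul_right k (by omega)
      omega
    omega
  have hset : ({0, 1, -1} : Set F) = {x | σ x = x} := by
    refine Set.eq_of_subset_of_ncard_le ?_ ?_ (Set.toFinite _)
    · rintro y (rfl | rfl | rfl) <;> simp
    · rw [Set.ncard_eq_three.2 ⟨0, 1, -1, zero_ne_one, (neg_ne_zero.2 one_ne_zero).symm, (neg_one_ne h2).symm, rfl⟩]
      rw [← Nat.card_coe_set_eq]
      exact (hk.symm.trans hk3).le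
  have hmem : ∀ y : F, σ y = y → y = 0 ∨ y = 1 ∨ y = -1 := fun y hy => by
    have : y ∈ ({0, 1, -1} : Set F) := hset ▸ hy
    simpa using this
  have hN1 : N = 1 := by
    apply Units.ext
    rw [hN, Units.val_mul, uMap_val, Units.val_one]
    have hσd : σ (d : F) = d ∨ σ (d : F) = -d := mul_self_eq_mul_self_iff.1 (by rw [← map_mul, hd2])
    rcases hσd with e' | e' <;> rw [e']
    · rcases hmem _ e' with h0 | h0 | h0
      · exact absurd h0 d.ne_zero
      · rw [h0]; ring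
      · rw [h0]; ring
    · rcases hmem _ hd2 with h0 | h0 | h0
      · exact absurd (mul_self_eq_zero.1 h0) d.ne_zero
      · exfalso
        rcases mul_self_eq_one_iff.1 h0 with h1 | h1 <;> rw [h1] at e'
        · rw [map_one] at e'; exact neg_one_ne h2 e'.symm
        · rw [map_neg, map_one, neg_neg] at e'; exact neg_one_ne h2 e'
      · linear_combination -h0
  rw [hN1, orderOf_one] at hm
  omega

/-- The outer automorphisms involved are diagonal. -/
theorem fld_eq_one (h : HCN G) (hCM : ∀ g, (∀ m ∈ M, Commute g m) → g = 1) (h2 : (2 : F) ≠ 0)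
    (hq : 3 < Fintype.card F) (g : G) : fld M e g = 1 := by
  by_contra hne
  obtain ⟨n, hn⟩ : ∃ n, n = orderOf (fld M e g) := ⟨_, rfl⟩
  have hfin : IsOfFinOrder (fld M e g) := (fld M e).isOfFinOrder (isOfFinOrder_of_finite g)
  have hn1 : n ≠ 1 := fun e' => hne (orderOf_eq_one_iff.1 (hn ▸ e'))
  obtain ⟨r, hr, hrn⟩ := Nat.exists_prime_and_dvd hn1
  obtain ⟨m, hm⟩ := hrn
  have hord : orderOf (fld M e (g ^ m)) = r := by
    rw [map_pow, orderOf_pow_of_dvd (by rintro rfl; rw [mul_zero] at hm; exact absurd (hn ▸ hm) hfin.orderOf_pos.ne')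
      (by rw [← hn, hm]; exact dvd_mul_left m r), ← hn, hm, Nat.mul_div_cancel _ (by
        rcases Nat.eq_zero_or_pos m with rfl | h0
        · rw [mul_zero] at hm; exact absurd (hn ▸ hm) hfin.orderOf_pos.ne'
        · exact h0)]
  by_cases hr2 : r = 2
  · exact no_two M e h hCM h2 (g ^ m) (hord.trans hr2)
  · exact no_odd M e h h2 hq hr hr2 (g ^ m) hord

include e in
/-- Extensions are `PSL₂` or `PGL₂`. -/
theorem odd_case (h : HCN G) (hCM : ∀ g, (∀ m ∈ M, Commute g m) → g = 1) (h2 : (2 : F) ≠ 0)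
    (hq : 3 < Fintype.card F) : Nonempty (G ≃* P2) ∨ Nonempty (G ≃* G2) := by
  classical
  haveI : Finite G2 := Dickson.finite_pgl F
  have hker : ∀ x ∈ Subgroup.center (GL (Fin 2) F), PSL2.conjP x = 1 := by
    intro x hx
    rw [Matrix.GeneralLinearGroup.center_eq_range_scalar] at hx
    obtain ⟨u, rfl⟩ := hx
    exact MulEquiv.ext fun y => Dickson.conjP_scalar u y
  let ψ : G2 →* MulAut P2 := QuotientGroup.lift (Subgroup.center (GL (Fin 2) F)) PSL2.conjP hker
  have hψ : Function.Injective ψ := by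
    rw [injective_iff_map_eq_one]
    intro x hx
    obtain ⟨g, rfl⟩ := Matrix.ProjGenLinGroup.mk_surjective x
    have hs := PSL2.scalar_of_conjP_eq_one (h := g) hx
    refine (QuotientGroup.eq_one_iff g).2 ?_
    rw [Matrix.GeneralLinearGroup.center_eq_range_scalar]
    have ha : g.val 0 0 ≠ 0 := fun e' => ((Matrix.isUnit_iff_isUnit_det _).1 g.isUnit).ne_zero (by
      rw [hs, e', zero_smul]; simp)
    have h01 : g.val 0 1 = 0 := by simpa using congrFun (congrFun hs 0) 1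
    have h10 : g.val 1 0 = 0 := by simpa using congrFun (congrFun hs 1) 0
    have h11 : g.val 1 1 = g.val 0 0 := by simpa using congrFun (congrFun hs 1) 1
    exact ⟨Units.mk0 _ ha, Units.ext (by
      ext a b; fin_cases a <;> fin_cases b <;> simp [h01, h10, h11])⟩
  have hr : ∀ g, act M e g ∈ ψ.range := fun g => by
    obtain ⟨x, hx⟩ := fld_spec M e g
    rw [fld_eq_one M e h hCM h2 hq g, map_one, mul_one] at hx
    exact ⟨Matrix.ProjGenLinGroup.mk x, hx.symm⟩
  let f : G →* G2 := (MonoidHom.ofInjective hψ).symm.toMonoidHom.comp ((act M e).codRestrict ψ.range hr)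
  have hfψ : ∀ g, ψ (f g) = act M e g := fun g => by
    have := congrArg Subtype.val ((MonoidHom.ofInjective hψ).apply_symm_apply ⟨act M e g, hr g⟩)
    rw [MonoidHom.ofInjective_apply] at this
    exact this
  have hfinj : Function.Injective f := fun a b e' => act_inj M e hCM (by rw [← hfψ, ← hfψ, e'])
  have hle : (Matrix.ProjectiveSpecialLinearGroup.toPGL : P2 →* G2).range ≤ f.range := by
    rintro _ ⟨p, rfl⟩
    refine ⟨emb M e p, hψ ?_⟩
    rw [hfψ, act_emb]
    obtain ⟨A, rfl⟩ := PSL2.pr_surjective p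
    rw [← PSL2.conjP_toGL]
    rfl
  have hidx : f.range.index ∣ 2 := by
    have := index_dvd_of_le hle
    rwa [Dickson.range_index h2] at this
  rcases (Nat.dvd_prime Nat.prime_two).1 hidx with e1 | e1
  · right
    exact ⟨(MonoidHom.ofInjective hfinj).trans ((MulEquiv.subgroupCongr (index_eq_one.1 e1)).trans Subgroup.topEquiv)⟩
  · left
    have heq : (Matrix.ProjectiveSpecialLinearGroup.toPGL : P2 →* G2).range = f.range := by
      refine eq_of_le_of_card_ge hle (le_of_eq ?_)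
      have h1 := (Matrix.ProjectiveSpecialLinearGroup.toPGL : P2 →* G2).range.card_mul_index
      have h3 := f.range.card_mul_index
      rw [Dickson.range_index h2] at h1
      rw [e1] at h3
      omega
    exact ⟨(MonoidHom.ofInjective hfinj).trans ((MulEquiv.subgroupCongr heq.symm).trans
      (MonoidHom.ofInjective Matrix.ProjectiveSpecialLinearGroup.toPGL_injective).symm)⟩

end Cfsg.Agent.Classical.CyclicNormalizer
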