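import Cfsg.Agent.Lib.Classical.CyclicNormalizer.Basic
import Cfsg.Agent.Lib.Small.PSL2
import Cfsg.Agent.Lib.Lie.OddGraphPSL2

/-!
# No outer extensions of `PSL₂(q)`, `q ≥ 8` even, in this class of groups
-/

set_option autoImplicit false
set_option linter.unusedSectionVars false
set_option linter.style.haveILetI false

namespace Cfsg.Agent.Classical.CyclicNormalizer

open Subgroup Cfsg.Agent.Small

variable {G : Type*} [Group G] [Finite G]

/-- The properties of a normal `PSL₂(2^f)` that are used. -/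
structure EvenData (M S : Subgroup G) (n : G) : Prop where
  hcn : HCN G
  nor : M.Normal
  sm : S ≤ M
  el : ∀ s ∈ S, s * s = 1
  big : 4 < Nat.card S
  cent : ∀ x ∈ M, ∀ s ∈ S, s ≠ 1 → Commute x s → x ∈ S
  nM : n ∈ M
  nS : ∀ s ∈ S, n * s * n⁻¹ ∈ S
  nodd : Odd (_root_.orderOf n)
  fpf : ∀ s ∈ S, Commute n s → s = 1
  conj : ∀ a ∈ M, ∀ b ∈ M, Inv a → Inv b → ∃ m ∈ M, m * a * m⁻¹ = b

theorem EvenData.eq_top {M S : Subgroup G} {n : G} (D : EvenData M S n) : M = ⊤ := by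
  classical
  haveI := D.nor
  have h := D.hcn
  have hS2 : IsPGroup 2 S := fun s => ⟨1, Subtype.ext (by
    rw [pow_one, SubgroupClass.coe_pow, pow_two]; exact D.el s s.2)⟩
  have hab : ∀ a ∈ S, ∀ b ∈ S, Commute a b := fun a ha b hb => by
    rw [Commute, SemiconjBy]
    calc a * b = a * b * ((a * b * (a * b))⁻¹) := by rw [D.el _ (mul_mem ha hb)]; group
      _ = b⁻¹ * a⁻¹ := by group
      _ = b * a := by rw [inv_eq_of_mul_eq_one_right (D.el a ha), inv_eq_of_mul_eq_one_right (D.el b hb)]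
  have hnS' : ∀ s ∈ S, n⁻¹ * s * n ∈ S := fun s hs => by
    have := norm_conj (inv_mem (mem_norm D.nS)) hs
    rwa [inv_inv] at this
  have hUM : ∀ t ∈ S, Inv t → ∀ y ∈ U t, y ∈ M → y = 1 := fun t ht hti y hy hyM =>
    mem_twoGroup_U h hS2 hti (D.cent y hyM t ht hti.2 ((mem_U h hti).1 hy).1) hy
  have hU : ∀ t ∈ S, Inv t → ∀ y ∈ U t, y = 1 := by
    intro t ht hti y hy
    by_contra hy1
    have hys : ∀ s ∈ S, Commute y s := fun s hs => by
      have h2 : s * y * s⁻¹ ∈ zpowers y := (U_nz h hti hy hy1).2 (hab s hs t ht)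
      have h3 : s * y * s⁻¹ * y⁻¹ ∈ M := by
        rw [show s * y * s⁻¹ * y⁻¹ = s * (y * s⁻¹ * y⁻¹) by group]
        exact mul_mem (D.sm hs) (D.nor.conj_mem _ (inv_mem (D.sm hs)) y)
      exact (conj_iff_commute.1 (mul_inv_eq_one.1
        (hUM t ht hti _ ((zpowers_le.2 hy) (mul_mem h2 (inv_mem (mem_zpowers y)))) h3))).symm
    have ht' : n * t * n⁻¹ ∈ S := D.nS t ht
    have hyU' : y ∈ U (n * t * n⁻¹) :=
      (mem_U h (hti.conj n)).2 ⟨hys _ ht', ((mem_U h hti).1 hy).2⟩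
    have hy'U : n * y * n⁻¹ ∈ U t := by
      have h1 := (conj_mem_U h hti n).2 hy
      refine (mem_U h hti).2 ⟨?_, ((mem_U h (hti.conj n)).1 h1).2⟩
      exact (U_nz h hti hy hy1).1 ((U_nz h (hti.conj n) hyU' hy1).2 ((mem_U h (hti.conj n)).1 h1).1)
    have h3 : n * y * n⁻¹ * y⁻¹ ∈ M := by
      rw [show n * y * n⁻¹ * y⁻¹ = n * (y * n⁻¹ * y⁻¹) by group]
      exact mul_mem D.nM (D.nor.conj_mem _ (inv_mem D.nM) y)
    have h4 : n * y * n⁻¹ = y := mul_inv_eq_one.1 (hUM t ht hti _ (mul_mem hy'U (inv_mem hy)) h3)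
    exact hti.2 (D.fpf t ht ((U_nz h hti hy hy1).1 (by rw [Nz, h4]; exact mem_zpowers y)))
  have hC2 : ∀ t ∈ S, Inv t → ∀ g, Commute g t → ∃ k, g ^ 2 ^ k = 1 := by
    intro t ht hti g hg
    obtain ⟨k, m, hm, hkm⟩ := Nat.exists_eq_two_pow_mul_odd (orderOf_pos g).ne'
    refine ⟨k, hU t ht hti _ ((mem_U h hti).2 ⟨hg.pow_left _, ?_⟩)⟩
    rw [orderOf_pow_of_dvd (by positivity) (hkm ▸ dvd_mul_right _ _), hkm,
      Nat.mul_div_cancel_left _ (by positivity)]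
    exact hm
  obtain ⟨t, ht, ht1⟩ : ∃ t ∈ S, t ≠ 1 := by
    by_contra hc
    push_neg at hc
    have := D.big
    rw [show S = ⊥ from eq_bot_iff.2 fun t ht => Subgroup.mem_bot.2 (hc t ht), Subgroup.card_bot] at this
    omega
  have hti : Inv t := ⟨D.el t ht, ht1⟩
  have hC : ∀ x, (∀ s ∈ S, Commute x s) → x ∈ S := by
    intro x hx
    by_contra hxS
    have hx' : ∀ s ∈ S, Commute (n * x * n⁻¹) s := fun s hs => by
      have h1 := (hx _ (hnS' s hs)).eq
      rw [Commute, SemiconjBy]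
      calc n * x * n⁻¹ * s = n * (x * (n⁻¹ * s * n)) * n⁻¹ := by group
        _ = n * ((n⁻¹ * s * n) * x) * n⁻¹ := by rw [h1]
        _ = s * (n * x * n⁻¹) := by group
    obtain ⟨s₁, hs₁⟩ : ∃ s₁, s₁ = n * x * n⁻¹ * x⁻¹ := ⟨_, rfl⟩
    have hs₁S : s₁ ∈ S := by
      refine hs₁ ▸ D.cent _ ?_ t ht ht1 ((hx' t ht).mul_left (hx t ht).inv_left)
      rw [show n * x * n⁻¹ * x⁻¹ = n * (x * n⁻¹ * x⁻¹) by group]
      exact mul_mem D.nM (D.nor.conj_mem _ (inv_mem D.nM) x)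
    let f : S → S := fun s => ⟨s * (n * s * n⁻¹)⁻¹, mul_mem s.2 (inv_mem (D.nS s s.2))⟩
    have hf : Function.Injective f := by
      intro a b e
      have e' : (a : G) * (n * a * n⁻¹)⁻¹ = b * (n * b * n⁻¹)⁻¹ := congrArg Subtype.val e
      have hfix : n * ((b : G)⁻¹ * a) * n⁻¹ = (b : G)⁻¹ * a := by
        calc n * ((b : G)⁻¹ * a) * n⁻¹ = (n * b * n⁻¹)⁻¹ * (n * a * n⁻¹) := by group
          _ = (b : G)⁻¹ * (b * (n * b * n⁻¹)⁻¹) * (n * a * n⁻¹) := by group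
          _ = (b : G)⁻¹ * (a * (n * a * n⁻¹)⁻¹) * (n * a * n⁻¹) := by rw [e']
          _ = (b : G)⁻¹ * a := by group
      exact Subtype.ext (inv_mul_eq_one.1 (D.fpf _ (mul_mem (inv_mem b.2) a.2) (conj_iff_commute.1 hfix))).symm
    obtain ⟨s, hs⟩ := Finite.surjective_of_injective hf ⟨s₁, hs₁S⟩
    have hs' : (s : G) * (n * s * n⁻¹)⁻¹ = s₁ := congrArg Subtype.val hs
    obtain ⟨g, hg⟩ : ∃ g, g = x * (s : G) := ⟨_, rfl⟩
    have hgn : Commute n g := by
      refine conj_iff_commute.1 ?_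
      calc n * g * n⁻¹ = (n * x * n⁻¹) * (n * s * n⁻¹) := by rw [hg]; group
        _ = (s₁ * x) * (n * s * n⁻¹) := by rw [hs₁]; group
        _ = x * (s₁ * (n * s * n⁻¹)) := by rw [(hx s₁ hs₁S).symm.eq]; group
        _ = g := by rw [← hs', hg]; group
    have hgS : ∀ s' ∈ S, Commute g s' := fun s' hs'' => hg ▸ (hx s' hs'').mul_left (hab _ s.2 s' hs'')
    have hg1 : g ≠ 1 := fun e => hxS (by
      rw [hg] at e; rw [eq_inv_of_mul_eq_one_left e]; exact inv_mem s.2)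
    obtain ⟨k, hk⟩ := hC2 t ht hti g (hgS t ht)
    have hgP : IsPGroup 2 (zpowers g) := by
      obtain ⟨j, -, hj⟩ := (Nat.dvd_prime_pow Nat.prime_two).1 (orderOf_dvd_of_pow_eq_one hk)
      exact IsPGroup.of_card (by rw [Nat.card_zpowers, hj])
    obtain ⟨w, hw, hwi⟩ : ∃ w ∈ zpowers g, Inv w := by
      by_cases hg2 : g * g = 1
      · exact ⟨g, mem_zpowers g, hg2, hg1⟩
      · obtain ⟨r, hr, hri⟩ := exists_root hgP (mem_zpowers g) hg2
        exact ⟨r * r, mul_mem hr hr, hri⟩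
    obtain ⟨i, hi⟩ := mem_zpowers_iff.1 hw
    have hnw : Commute n w := hi ▸ hgn.zpow_right i
    have hnU : n ∈ U w := (mem_U h hwi).2 ⟨hnw, D.nodd⟩
    have hn1 : n ≠ 1 := fun e => ht1 (D.fpf t ht (e ▸ Commute.one_left t))
    refine ht1 (D.fpf t ht ?_)
    have h2 : t * n * t⁻¹ ∈ zpowers n :=
      (U_nz h hwi hnU hn1).2 (hi ▸ ((hgS t ht).symm.zpow_right i))
    have h4 : t * n * t⁻¹ * n⁻¹ ∈ S := by
      rw [show t * n * t⁻¹ * n⁻¹ = t * (n * t⁻¹ * n⁻¹) by group]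
      exact mul_mem ht (D.nS _ (inv_mem ht))
    exact (conj_iff_commute.1 (mul_inv_eq_one.1 (mem_twoGroup_U h hS2 hwi h4
      ((zpowers_le.2 hnU) (mul_mem h2 (inv_mem (mem_zpowers n))))))).symm
  by_contra hM
  obtain ⟨x, hx⟩ : ∃ x : G, x ∉ M := by
    by_contra hc; push_neg at hc; exact hM (eq_top_iff.2 fun y _ => hc y)
  obtain ⟨m, hm, hmt⟩ := D.conj _ (D.nor.conj_mem t (D.sm ht) x) t (D.sm ht) (hti.conj x) hti
  obtain ⟨g, hg⟩ : ∃ g, g = m * x := ⟨_, rfl⟩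
  have hgM : g ∉ M := fun e => hx (by
    have := mul_mem (inv_mem hm) (hg ▸ e : m * x ∈ M)
    rwa [inv_mul_cancel_left] at this)
  have hgt : Commute g t := conj_iff_commute.1 (by
    rw [hg, show m * x * t * (m * x)⁻¹ = m * (x * t * x⁻¹) * m⁻¹ by group, hmt])
  have hgN : ∀ s ∈ S, g * s * g⁻¹ ∈ S := fun s hs => by
    refine D.cent _ (D.nor.conj_mem s (D.sm hs) g) t ht ht1 ?_
    exact (hgt.mul_left (hab s hs t ht)).mul_left hgt.inv_left
  have hgP : IsPGroup 2 (zpowers g) := by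
    obtain ⟨k, hk⟩ := hC2 t ht hti g hgt
    obtain ⟨j, -, hj⟩ := (Nat.dvd_prime_pow Nat.prime_two).1 (orderOf_dvd_of_pow_eq_one hk)
    exact IsPGroup.of_card (by rw [Nat.card_zpowers, hj])
  obtain ⟨P, hP⟩ : ∃ P, P = (zpowers g ⊔ S : Subgroup G) := ⟨_, rfl⟩
  have hPp : IsPGroup 2 P :=
    hP ▸ IsPGroup.to_sup_of_normal_right' hgP hS2 (zpowers_le.2 (mem_norm hgN))
  have hgP' : g ∈ P := hP ▸ le_sup_left (α := Subgroup G) (mem_zpowers g)
  have hSP : S ≤ P := hP ▸ le_sup_right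
  obtain ⟨a, haP, ha4⟩ : ∃ a ∈ P, a * a ≠ 1 := by
    by_contra hc
    push_neg at hc
    refine hgM (D.sm (hC g fun s hs => ?_))
    have e1 := hc _ (mul_mem hgP' (hSP hs))
    rw [Commute, SemiconjBy]
    calc g * s = g * s * ((g * s * (g * s))⁻¹) := by rw [e1]; group
      _ = s⁻¹ * g⁻¹ := by group
      _ = s * g := by rw [inv_eq_of_mul_eq_one_right (hc g hgP'), inv_eq_of_mul_eq_one_right (hc s (hSP hs))]
  obtain ⟨z, c, hz, hcP, hc, hzc⟩ := exists_central_root h hPp haP ha4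
  have hzS : z ∈ S := hC z fun s hs => (hzc s (hSP hs)).symm
  have hcz : Commute c z := root_commute hc
  have hcM : c ∉ M := fun e => hz.2 (hc ▸ D.el c (D.cent c e z hzS hz.2 hcz))
  obtain ⟨s₀, hs₀, hs₀c⟩ : ∃ s ∈ S, ¬ Commute c s := by
    by_contra hcon; push_neg at hcon; exact hcM (D.sm (hC c hcon))
  have hflip : ∀ s ∈ S, ¬ Commute c s → s * c * s⁻¹ = c * z := fun s hs hn =>
    (root_cases h hz hc (hab s hs z hzS)).resolve_left fun e => hn (conj_iff_commute.1 e).symm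
  obtain ⟨z', hz'S, hz'1, hz'z, hz'c⟩ : ∃ z' ∈ S, z' ≠ 1 ∧ z' ≠ z ∧ Commute c z' := by
    obtain ⟨a, ha, hna⟩ : ∃ a ∈ (S : Set G), a ∉ ({1, z, s₀, z * s₀} : Set G) := by
      by_contra hcon
      push_neg at hcon
      have := Set.ncard_le_ncard hcon (Set.toFinite _)
      have h4 : ({1, z, s₀, z * s₀} : Set G).ncard ≤ 4 := by
        refine (Set.ncard_insert_le _ _).trans ?_
        refine Nat.add_le_add_right ((Set.ncard_insert_le _ _).trans ?_) 1
        refine Nat.add_le_add_right ((Set.ncard_insert_le _ _).trans ?_) 1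
        rw [Set.ncard_singleton]
      have hb := D.big
      rw [← Nat.card_coe_set_eq] at this
      exact absurd (lt_of_lt_of_le hb (this.trans h4)) (lt_irrefl 4)
    simp only [Set.mem_insert_iff, Set.mem_singleton_iff, not_or] at hna
    by_cases hac : Commute c a
    · exact ⟨a, ha, hna.1, hna.2.1, hac⟩
    refine ⟨a * s₀, mul_mem ha hs₀, fun e => hna.2.2.1 ?_, fun e => hna.2.2.2 ?_, ?_⟩
    · rw [eq_inv_of_mul_eq_one_left e, inv_eq_of_mul_eq_one_right (D.el _ hs₀)]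
    · rw [← e, mul_assoc, D.el _ hs₀, mul_one]
    · refine (conj_iff_commute.1 ?_).symm
      rw [show a * s₀ * c * (a * s₀)⁻¹ = a * (s₀ * c * s₀⁻¹) * a⁻¹ by group, hflip s₀ hs₀ hs₀c,
        show a * (c * z) * a⁻¹ = (a * c * a⁻¹) * (a * z * a⁻¹) by group, hflip a ha hac,
        conj_iff_commute.2 (hab a ha z hzS), mul_assoc, hz.1, mul_one]
  have hz'I : Inv z' := ⟨D.el _ hz'S, hz'1⟩
  obtain ⟨k, hk, hkz⟩ := D.conj z (D.sm hzS) z' (D.sm hz'S) hz hz'I
  have hc' : k * c * k⁻¹ * (k * c * k⁻¹) = z' := by rw [← hkz, ← hc]; group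
  rcases pair h hz hz'I (Ne.symm hz'z) (hab z hzS z' hz'S) hc hc' with e | ⟨e, -⟩
  · obtain ⟨u, hu⟩ : ∃ u, u = k * c * k⁻¹ * c⁻¹ := ⟨_, rfl⟩
    have huM : u ∈ M := by
      rw [hu, show k * c * k⁻¹ * c⁻¹ = k * (c * k⁻¹ * c⁻¹) by group]
      exact mul_mem hk (D.nor.conj_mem _ (inv_mem hk) c)
    have huz : Commute u z := hu ▸ ((hc ▸ e.symm.mul_right e.symm).mul_left hcz.inv_left)
    have huS : u ∈ S := D.cent u huM z hzS hz.2 huz
    have hu' : k * c * k⁻¹ = u * c := by rw [hu]; group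
    rw [hu'] at hc'
    by_cases huc : Commute c u
    · rw [show u * c * (u * c) = u * (c * u) * c by group, huc.eq,
        show u * (u * c) * c = (u * u) * (c * c) by group, D.el u huS, one_mul, hc] at hc'
      exact hz'z hc'.symm
    · have h1 := hflip u huS huc
      rw [inv_eq_of_mul_eq_one_right (D.el u huS)] at h1
      rw [show u * c * (u * c) = (u * c * u) * c by group, h1,
        show c * z * c = c * (z * c) by group, ← hcz.eq, ← mul_assoc, hc, hz.1] at hc'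
      exact hz'1 hc'.symm
  · rw [conj_iff_commute.2 hz'c.symm] at e
    exact hz.2 (mul_eq_left.1 e.symm)

variable {F : Type} [Field F] [Fintype F]

local notation "P2" => Matrix.ProjectiveSpecialLinearGroup (Fin 2) F

theorem hS_mul (a b : Fˣ) : PSL2.hS (a * b) = PSL2.hS a * PSL2.hS b := by
  apply Subtype.ext
  rw [Matrix.SpecialLinearGroup.coe_mul]
  ext i j
  fin_cases i <;> fin_cases j <;> simp [PSL2.hS, Matrix.mul_apply, Fin.sum_univ_two, mul_comm]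

theorem hS_one : PSL2.hS (1 : Fˣ) = 1 := by
  apply Subtype.ext
  simp [PSL2.hS, Matrix.one_fin_two]

theorem hS_pow (a : Fˣ) (i : ℕ) : PSL2.hS a ^ i = PSL2.hS (a ^ i) := by
  induction i with
  | zero => rw [pow_zero, pow_zero, hS_one]
  | succ i ih => rw [pow_succ, pow_succ, ih, hS_mul]

theorem uS_zero : PSL2.uS (0 : F) = 1 := by
  apply Subtype.ext
  simp [PSL2.uS, Matrix.one_fin_two]

/-- A normal `PSL₂(q)`, `q ≥ 8` even, is everything. -/
theorem eq_top_of_even (h : HCN G) (M : Subgroup G) [hn : M.Normal] (e : ↥M ≃* P2) (h2 : (2 : F) = 0)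
    (hq : 4 < Fintype.card F) : M = ⊤ := by
  classical
  haveI : Fact (Nat.Prime 2) := ⟨Nat.prime_two⟩
  haveI : CharP F 2 := CharTwo.of_one_ne_zero_of_two_eq_zero one_ne_zero h2
  let j : P2 →* G := M.subtype.comp e.symm.toMonoidHom
  have hj : Function.Injective j := M.subtype_injective.comp e.symm.injective
  have hjM : ∀ p, j p ∈ M := fun p => (e.symm p).2
  have hjsurj : ∀ x ∈ M, ∃ p, j p = x := fun x hx => ⟨e ⟨x, hx⟩, by simp [j]⟩
  obtain ⟨a, ha⟩ : ∃ a : Fˣ, a ≠ 1 := by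
    by_contra hc
    push_neg at hc
    haveI : Subsingleton Fˣ := ⟨fun x y => (hc x).trans (hc y).symm⟩
    have h1 := Fintype.card_units (α := F)
    have h0 := Fintype.card_le_one_iff_subsingleton.2 (inferInstance : Subsingleton Fˣ)
    omega
  have ha2 : (a : F) ^ 2 ≠ 1 := fun e' => ha (Units.ext (by
    have : ((a : F) + 1) ^ 2 = 0 := by linear_combination e' + ((a : F) + 1) * h2
    rw [Units.val_one]
    linear_combination (pow_eq_zero_iff (n := 2) (by norm_num)).1 this - h2))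
  have hconj : ∀ x : F, PSL2.hS a * PSL2.uS x * (PSL2.hS a)⁻¹ = PSL2.uS ((a : F) ^ 2 * x) := fun x => by
    rw [PSL2.hS_uS, mul_inv_cancel_right]
  refine EvenData.eq_top (S := (PSL2.U (F := F)).map j) (n := j (PSL2.pr (PSL2.hS a))) ⟨h, hn, ?_, ?_, ?_,
    ?_, hjM _, ?_, ?_, ?_, ?_⟩
  · rintro _ ⟨p, -, rfl⟩; exact hjM p
  · rintro _ ⟨p, hp, rfl⟩
    obtain ⟨x, rfl⟩ := (PSL2.mem_U p).1 hp
    rw [← map_mul, ← map_mul, ← PSL2.uS_add, show x + x = 0 by linear_combination x * h2, uS_zero, map_one,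
      map_one]
  · rw [Subgroup.card_map_of_injective hj]
    have hU : Nat.card ↥(PSL2.U (F := F)) = Fintype.card F := by
      rw [← Nat.card_eq_fintype_card]
      refine (Nat.card_congr (Equiv.ofBijective (fun x : F => (⟨PSL2.pr (PSL2.uS x), PSL2.uS_mem x⟩ : ↥(PSL2.U)))
        ⟨fun x y e' => PSL2.pr_uS_inj (congrArg Subtype.val e'), fun p => ?_⟩)).symm
      obtain ⟨x, hx⟩ := (PSL2.mem_U (p : P2)).1 p.2
      exact ⟨x, Subtype.ext hx⟩
    rwa [hU]
  · intro x hx s hs hs1 hxs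
    obtain ⟨p, rfl⟩ := hjsurj x hx
    obtain ⟨q, hq', rfl⟩ := hs
    obtain ⟨y, rfl⟩ := (PSL2.mem_U q).1 hq'
    have hy : y ≠ 0 := fun e' => hs1 (by rw [e', uS_zero, map_one, map_one])
    refine ⟨p, PSL2.mem_U_of_commute hy (hj ?_), rfl⟩
    rw [map_mul, map_mul]; exact hxs
  · rintro _ ⟨p, hp, rfl⟩
    obtain ⟨x, rfl⟩ := (PSL2.mem_U p).1 hp
    refine ⟨_, PSL2.uS_mem ((a : F) ^ 2 * x), ?_⟩
    rw [← hconj, map_mul, map_mul, map_inv, map_mul, map_mul, map_inv]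
  · rw [orderOf_injective j hj]
    have h1 : PSL2.pr (PSL2.hS a) ^ (Fintype.card F - 1) = 1 := by
      rw [← map_pow, hS_pow, ← Fintype.card_units, pow_card_eq_one, hS_one, map_one]
    refine Odd.of_dvd_nat ?_ (orderOf_dvd_of_pow_eq_one h1)
    have heven : 2 ∣ Fintype.card F := by rw [← CharP.cast_eq_zero_iff F 2, Nat.cast_card_eq_zero]
    obtain ⟨i, hi⟩ := heven
    exact ⟨i - 1, by omega⟩
  · rintro _ ⟨p, hp, rfl⟩ hc
    obtain ⟨x, rfl⟩ := (PSL2.mem_U p).1 hp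
    rw [← map_one j]
    congr 1
    have h1 : PSL2.pr (PSL2.uS ((a : F) ^ 2 * x)) = PSL2.pr (PSL2.uS x) := hj (by
      rw [← hconj, map_mul, map_mul, map_inv, map_mul, map_mul, map_inv, conj_iff_commute.2 hc])
    have h2' := PSL2.pr_uS_inj h1
    have : x = 0 := by
      by_contra hx
      exact ha2 ((mul_eq_right₀ hx).1 h2')
    rw [this, uS_zero, map_one]
  · intro x hx y hy hxi hyi
    obtain ⟨p, rfl⟩ := hjsurj x hx
    obtain ⟨q, rfl⟩ := hjsurj y hy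
    have hoi : ∀ r : P2, Inv (j r) → orderOf r = 2 := fun r hr => by
      rw [← orderOf_injective j hj]; exact hr.orderOf
    obtain ⟨c, hc⟩ := isConj_iff.1 (Lie.OddGraphPSL2.involutions_isConj (hoi p hxi) (hoi q hyi))
    exact ⟨j c, hjM c, by rw [← hc]; simp [map_mul, map_inv]⟩

end Cfsg.Agent.Classical.CyclicNormalizer
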