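import Cfsg.Agent.Lib.Classical.CyclicNormalizer.Simple
import Cfsg.Agent.Lib.Classical.CyclicNormalizer.OuterEven
import Cfsg.Agent.Lib.Classical.CyclicNormalizer.OuterOdd
import Cfsg.Agent.Lib.Classical.PSL2Ico
import Cfsg.Agent.Lib.Lie.OrderSixty
import Cfsg.Agent.Lib.Perm.CharSimple
import Cfsg.Agent.Lib.Solv.Basic

/-!
# The recognition theorem
-/

set_option autoImplicit false
set_option linter.unusedSectionVars false
set_option linter.style.haveILetI false

namespace Cfsg.Agent.Classical.CyclicNormalizer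

open Subgroup Cfsg

variable {G : Type*} [Group G] [Finite G]

/-- A simple nonabelian subgroup has no involution centralizing it. -/
theorem no_commuting (h : HCN G) (A : Subgroup G) [IsSimpleGroup ↥A] (hA : ∃ a b : ↥A, a * b ≠ b * a)
    {u : G} (hu : Inv u) (hc : ∀ a ∈ A, Commute a u) : False := by
  obtain ⟨p, hp, hp2, hpd⟩ : ∃ p, p.Prime ∧ p ≠ 2 ∧ p ∣ Nat.card A := by
    by_contra hcon
    push_neg at hcon
    haveI : Fact (Nat.Prime 2) := ⟨Nat.prime_two⟩
    have hP : IsPGroup 2 A :=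
      IsPGroup.of_card (Nat.eq_prime_pow_of_unique_prime_dvd Nat.card_pos.ne' fun {d} hd hdd => by
        by_contra hd2
        exact hcon d hd hd2 hdd)
    haveI := hP.isNilpotent
    obtain ⟨a, b, hab⟩ := hA
    exact hab (IsSimpleGroup.comm_iff_isSolvable.2 inferInstance a b)
  haveI : Fact p.Prime := ⟨hp⟩
  obtain ⟨y, hy⟩ := exists_prime_orderOf_dvd_card' p hpd
  have hyU : (y : G) ∈ U u :=
    (mem_U h hu).2 ⟨hc y y.2, by rw [orderOf_coe, hy]; exact hp.odd_of_ne_two hp2⟩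
  have hy1 : (y : G) ≠ 1 := fun e => hp.ne_one (by rw [← hy, ← orderOf_coe, e, orderOf_one])
  haveI hn : ((zpowers (y : G)).subgroupOf A).Normal := ⟨fun n hn g => by
    rw [mem_subgroupOf] at hn ⊢
    exact norm_conj ((nz_iff_mem_normalizer (g : G) y).1 ((U_nz h hu hyU hy1).2 (hc g g.2))) hn⟩
  rcases hn.eq_bot_or_eq_top with e | e
  · have hyb : y ∈ (⊥ : Subgroup ↥A) := e ▸ mem_subgroupOf.2 (mem_zpowers (y : G))
    rw [Subgroup.mem_bot] at hyb
    exact hy1 (by rw [hyb, Subgroup.coe_one])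
  · obtain ⟨a, b, hab⟩ := hA
    obtain ⟨i, hi⟩ := mem_zpowers_iff.1 (mem_subgroupOf.1 (e ▸ mem_top a : a ∈ (zpowers (y : G)).subgroupOf A))
    obtain ⟨j, hj⟩ := mem_zpowers_iff.1 (mem_subgroupOf.1 (e ▸ mem_top b : b ∈ (zpowers (y : G)).subgroupOf A))
    exact hab (Subtype.ext (by rw [Subgroup.coe_mul, Subgroup.coe_mul, ← hi, ← hj, ← zpow_add, ← zpow_add,
      add_comm]))

/-- `PSL₂(4)` is `PSL₂(5)`. -/
theorem four_to_five {H : Type*} [Group H] [Finite H] [IsSimpleGroup H] {F : Type} [Field F] [Fintype F]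
    (hF : Fintype.card F = 4) (e : H ≃* Matrix.ProjectiveSpecialLinearGroup (Fin 2) F) :
    ∃ (K : Type) (_ : Field K) (_ : Fintype K), 3 < Fintype.card K ∧ (2 : K) ≠ 0 ∧
      Nonempty (H ≃* Matrix.ProjectiveSpecialLinearGroup (Fin 2) K) := by
  haveI : Fact (Nat.Prime 5) := ⟨by norm_num⟩
  have h60 : Nat.card H = 60 := by
    have hc := Dickson.card_psl F
    rw [hF, ← Nat.card_congr e.toEquiv, show Nat.gcd 2 (4 - 1) = 1 from rfl, mul_one] at hc
    rw [hc]; norm_num
  obtain ⟨φ⟩ := Lie.simple_sixty h60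
  obtain ⟨f, hf⟩ := SL2Ico.exists_injective_alt_five (F := ZMod 5) (by rw [ZMod.card]; norm_num)
  haveI : Finite (Matrix.ProjectiveSpecialLinearGroup (Fin 2) (ZMod 5)) :=
    Finite.of_surjective _ Small.PSL2.pr_surjective
  refine ⟨ZMod 5, inferInstance, inferInstance, by rw [ZMod.card]; norm_num, (fun e2 => by
    have h5 : ((2 : ℕ) : ZMod 5) = 0 := by simpa using e2
    rw [ZMod.natCast_eq_zero_iff] at h5
    norm_num at h5),
    ⟨φ.trans (MulEquiv.ofBijective f ((Nat.bijective_iff_injective_and_card f).2 ⟨hf, ?_⟩))⟩⟩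
  have hc := Dickson.card_psl (ZMod 5)
  rw [ZMod.card, show Nat.gcd 2 (5 - 1) = 2 from rfl] at hc
  rw [← Nat.card_congr φ.toEquiv, h60]
  omega

theorem not_odd [Nontrivial G] (hss : ∀ N : Subgroup G, N.Normal → Group.IsSolvable ↥N → N = ⊥) :
    ¬ Odd (Nat.card G) := fun ho => by
  haveI := Cfsg.Agent.S0205.result (G := G) ho
  exact top_ne_bot (hss ⊤ inferInstance inferInstance)

/-- The recognition theorem. -/
theorem main [Nontrivial G] (hss : ∀ N : Subgroup G, N.Normal → Group.IsSolvable ↥N → N = ⊥) (h : HCN G) :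
    ∃ (F : Type) (_ : Field F) (_ : Fintype F), 3 < Fintype.card F ∧
      (Nonempty (G ≃* Matrix.ProjectiveSpecialLinearGroup (Fin 2) F) ∨
        Nonempty (G ≃* Matrix.ProjGenLinGroup (Fin 2) F)) := by
  classical
  haveI : Fact (Nat.Prime 2) := ⟨Nat.prime_two⟩
  obtain ⟨M, hMn, hM, hmin⟩ := Solv.exists_minimal_normal (G := G)
  haveI := hMn
  obtain ⟨T, _, m, hT, hm, ⟨φ⟩⟩ := Perm.minimal_normal_power M hM hmin
  have hTn : ∃ a b : T, a * b ≠ b * a := by
    by_contra hc
    push_neg at hc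
    haveI : Group.IsSolvable ↥M := Group.isSolvable_of_comm (fun a b => φ.injective (by
      rw [map_mul, map_mul]; exact funext fun i => hc (φ a i) (φ b i)))
    exact hM (hss M hMn inferInstance)
  haveI : Finite T := by
    haveI : Finite (Fin m → T) := Finite.of_equiv _ φ.toEquiv
    exact Finite.of_injective (fun x : T => fun _ : Fin m => x) fun a b e => congrFun e ⟨0, hm⟩
  obtain ⟨i₀, hi₀⟩ : ∃ i : Fin m, i = ⟨0, hm⟩ := ⟨_, rfl⟩
  let ι : T →* G := M.subtype.comp (φ.symm.toMonoidHom.comp (MonoidHom.mulSingle (fun _ : Fin m => T) i₀))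
  have hsingle : ∀ i, Function.Injective (MonoidHom.mulSingle (fun _ : Fin m => T) i) := fun i a b e => by
    simpa using congrFun e i
  have hι : Function.Injective ι := M.subtype_injective.comp (φ.symm.injective.comp (hsingle i₀))
  haveI : Nontrivial ↥ι.range := (MonoidHom.ofInjective hι).toEquiv.symm.nontrivial
  haveI hAs : IsSimpleGroup ↥ι.range :=
    IsSimpleGroup.isSimpleGroup_of_surjective (MonoidHom.ofInjective hι).toMonoidHom
      (MonoidHom.ofInjective hι).surjective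
  have hAn : ∃ a b : ↥ι.range, a * b ≠ b * a := by
    obtain ⟨a, b, hab⟩ := hTn
    refine ⟨MonoidHom.ofInjective hι a, MonoidHom.ofInjective hι b, fun e => hab ?_⟩
    exact (MonoidHom.ofInjective hι).injective (by rw [map_mul, map_mul, e])
  have hT2 : 2 ∣ Nat.card T := exists_involution (G := T) hTn
  have hm1 : m = 1 := by
    by_contra hm1
    obtain ⟨u, hu⟩ := exists_prime_orderOf_dvd_card' 2 hT2
    have hne : i₀ ≠ ⟨1, by omega⟩ := by rw [hi₀]; simp
    obtain ⟨w, hw⟩ : ∃ w : G, w = ((φ.symm (Pi.mulSingle ⟨1, by omega⟩ u) : ↥M) : G) := ⟨_, rfl⟩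
    refine no_commuting h ι.range hAn (u := w) (inv_of_orderOf ?_) ?_
    · rw [hw, Subgroup.orderOf_coe, MulEquiv.orderOf_eq,
        ← MonoidHom.mulSingle_apply, orderOf_injective _ (hsingle _), hu]
    · rintro _ ⟨a, rfl⟩
      rw [hw]
      exact ((Pi.mulSingle_commute hne a u).map φ.symm.toMonoidHom).map M.subtype
  subst hm1
  have hrange : ι.range = M := by
    refine le_antisymm ?_ fun x hx => ?_
    · rintro _ ⟨a, rfl⟩; exact (φ.symm _).2
    · refine ⟨φ ⟨x, hx⟩ i₀, ?_⟩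
      have : Pi.mulSingle i₀ (φ ⟨x, hx⟩ i₀) = φ ⟨x, hx⟩ := funext fun j => by
        rw [Subsingleton.elim j i₀, Pi.mulSingle_eq_same]
      show ((φ.symm (Pi.mulSingle i₀ (φ ⟨x, hx⟩ i₀)) : ↥M) : G) = x
      rw [this, φ.symm_apply_apply]
  haveI : Nontrivial ↥M := (MulEquiv.subgroupCongr hrange).toEquiv.symm.nontrivial
  haveI : IsSimpleGroup ↥M := IsSimpleGroup.isSimpleGroup_of_surjective
    (MulEquiv.subgroupCongr hrange).toMonoidHom (MulEquiv.subgroupCongr hrange).surjective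
  have hMna : ∃ a b : ↥M, a * b ≠ b * a := by
    obtain ⟨a, b, hab⟩ := hAn
    exact ⟨MulEquiv.subgroupCongr hrange a, MulEquiv.subgroupCongr hrange b, fun e =>
      hab ((MulEquiv.subgroupCongr hrange).injective (by rw [map_mul, map_mul, e]))⟩
  have hCM : ∀ g, (∀ m ∈ M, Commute g m) → g = 1 := by
    obtain ⟨C, hC⟩ : ∃ C, C = Subgroup.centralizer (M : Set G) := ⟨_, rfl⟩
    haveI : C.Normal := hC ▸ inferInstance
    have hCbot : C = ⊥ := by
      by_contra hne
      have h2 : 2 ∣ Nat.card C := by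
        by_contra h2
        haveI := Cfsg.Agent.S0205.result (G := C) (Nat.odd_iff.2 (by omega))
        exact hne (hss C inferInstance inferInstance)
      obtain ⟨u, hu⟩ := exists_prime_orderOf_dvd_card' 2 h2
      exact no_commuting h M hMna (inv_of_orderOf ((orderOf_coe u).trans hu))
        fun a ha => mem_centralizer_iff.1 (hC ▸ u.2) a ha
    intro g hg
    refine Subgroup.mem_bot.1 (hCbot ▸ hC ▸ mem_centralizer_iff.2 fun x hx => (hg x hx).eq.symm)
  obtain ⟨F, _, _, hF, ⟨e⟩⟩ := simple_case hMna (h.subgroup M)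
  by_cases h2 : (2 : F) = 0
  · by_cases h4 : Fintype.card F = 4
    · obtain ⟨K, _, _, hK, hK2, ⟨e'⟩⟩ := four_to_five h4 e
      exact ⟨K, _, _, hK, odd_case M e' h hCM hK2 hK⟩
    · have hMtop := eq_top_of_even h M e h2 (by omega)
      exact ⟨F, _, _, hF, Or.inl ⟨((MulEquiv.subgroupCongr hMtop).trans Subgroup.topEquiv).symm.trans e⟩⟩
  · exact ⟨F, _, _, hF, odd_case M e h hCM h2 hF⟩

end Cfsg.Agent.Classical.CyclicNormalizer
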