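import Mathlib
import Cfsg.Agent.S4211
import Cfsg.Agent.Lib.Char.BSW.Norm

/-!
# Groups whose even order cyclic subgroups share the normalizer with their nontrivial subgroups
-/

set_option autoImplicit false
set_option linter.unusedSectionVars false

namespace Cfsg.Agent.Classical.CyclicNormalizer

open Subgroup
open scoped commutatorElement

variable {G : Type*} [Group G]

/-- `g` normalizes the cyclic group on `y` (finite groups). -/
def Nz (g y : G) : Prop := g * y * g⁻¹ ∈ zpowers y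

/-- An involution. -/
def Inv (t : G) : Prop := t * t = 1 ∧ t ≠ 1

/-- The hypothesis, in elements. -/
def HCN (G : Type*) [Group G] : Prop :=
  ∀ x y g : G, Even (orderOf x) → y ∈ zpowers x → y ≠ 1 → (Nz g x ↔ Nz g y)

theorem Inv.orderOf {t : G} (h : Inv t) : orderOf t = 2 :=
  orderOf_eq_prime (by rw [pow_two]; exact h.1) h.2

theorem Inv.inv {t : G} (h : Inv t) : t⁻¹ = t := inv_eq_of_mul_eq_one_right h.1

theorem inv_of_orderOf {t : G} (h : _root_.orderOf t = 2) : Inv t :=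
  ⟨by rw [← pow_two, ← h, pow_orderOf_eq_one], fun e => by simp [e] at h⟩

theorem Inv.conj {t : G} (h : Inv t) (g : G) : Inv (g * t * g⁻¹) :=
  ⟨by rw [show g * t * g⁻¹ * (g * t * g⁻¹) = g * (t * t) * g⁻¹ by group, h.1]; group,
    fun e => h.2 (conj_eq_one_iff.1 e)⟩

theorem Inv.mul {u v : G} (hu : Inv u) (hv : Inv v) (huv : Commute u v) (hne : u ≠ v) : Inv (u * v) :=
  ⟨by rw [show u * v * (u * v) = u * (v * u) * v by group, ← huv.eq,
      show u * (u * v) * v = (u * u) * (v * v) by group, hu.1, hv.1, one_mul],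
    fun e => hne (by rw [← hv.inv]; exact eq_inv_of_mul_eq_one_left e)⟩

theorem conj_iff_commute {g t : G} : g * t * g⁻¹ = t ↔ Commute g t :=
  mul_inv_eq_iff_eq_mul

theorem nz_inv_iff {t : G} (h : Inv t) (g : G) : Nz g t ↔ Commute g t := by
  refine ⟨fun hg => ?_, fun hg => by rw [Nz, conj_iff_commute.2 hg]; exact mem_zpowers t⟩
  obtain ⟨k, hk⟩ := mem_zpowers_iff.1 hg
  rcases Int.even_or_odd k with ⟨m, rfl⟩ | ⟨m, rfl⟩
  · exfalso
    rw [← two_mul, zpow_mul, zpow_ofNat, pow_two, h.1, one_zpow] at hk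
    exact (h.conj g).2 hk.symm
  · rw [zpow_add, zpow_one, zpow_mul, zpow_ofNat, pow_two, h.1, one_zpow, one_mul] at hk
    exact conj_iff_commute.1 hk.symm

theorem HCN.of_injective {H : Type*} [Group H] (h : HCN G) (f : H →* G)
    (hf : Function.Injective f) : HCN H := by
  intro x y g hx hy hy1
  have key : ∀ a b : H, f a ∈ zpowers (f b) ↔ a ∈ zpowers b := fun a b => by
    rw [← MonoidHom.map_zpowers]
    exact ⟨fun ⟨c, hc, e⟩ => hf e ▸ hc, fun ha => ⟨a, ha, rfl⟩⟩
  have := h (f x) (f y) (f g) (by rwa [orderOf_injective f hf]) ((key y x).2 hy)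
    (fun e => hy1 (hf (by rw [e, map_one])))
  simpa only [Nz, ← map_mul, ← map_inv, key] using this

theorem HCN.subgroup (h : HCN G) (H : Subgroup G) : HCN H :=
  h.of_injective H.subtype H.subtype_injective

theorem norm_conj {X : Subgroup G} {g x : G} (hg : g ∈ normalizer (X : Set G)) (hx : x ∈ X) :
    g * x * g⁻¹ ∈ X := (mem_normalizer_iff.1 hg x).1 hx

variable [Finite G]

theorem mem_norm {X : Subgroup G} {g : G} (hg : ∀ x ∈ X, g * x * g⁻¹ ∈ X) :
    g ∈ normalizer (X : Set G) := by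
  haveI := Fintype.ofFinite G
  exact Char.BSW.mem_norm_of_conj hg

theorem nz_iff_mem_normalizer (g y : G) : Nz g y ↔ g ∈ normalizer (zpowers y : Set G) := by
  refine ⟨fun h => mem_norm fun x hx => ?_, fun h => norm_conj h (mem_zpowers y)⟩
  obtain ⟨k, rfl⟩ := mem_zpowers_iff.1 hx
  rw [← conj_zpow]
  exact zpow_mem h k

theorem hcn_of (hii : ∀ X : Subgroup G, IsCyclic ↥X → Even (Nat.card X) → ∀ Y : Subgroup G, Y ≤ X → Y ≠ ⊥ →
      Subgroup.normalizer (X : Set G) = Subgroup.normalizer (Y : Set G)) : HCN G := by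
  intro x y g hx hy hy1
  rw [nz_iff_mem_normalizer, nz_iff_mem_normalizer, hii (zpowers x) inferInstance (by rwa [Nat.card_zpowers])
    (zpowers y) (zpowers_le.2 hy) (fun e => hy1 (zpowers_eq_bot.1 e))]

theorem nz_root (h : HCN G) {x t : G} (ht : Inv t) (hx : t ∈ zpowers x) (g : G) :
    Nz g x ↔ Commute g t := by
  have he : Even (_root_.orderOf x) :=
    even_iff_two_dvd.2 (ht.orderOf ▸ orderOf_dvd_of_mem_zpowers hx)
  rw [h x t g he hx ht.2, nz_inv_iff ht]

theorem root_orderOf {x t : G} (ht : Inv t) (hx : x * x = t) : _root_.orderOf x = 4 := by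
  have := orderOf_eq_prime_pow (x := x) (p := 2) (n := 1) (by rw [pow_one, pow_two, hx]; exact ht.2)
    (by rw [show (2:ℕ) ^ (1 + 1) = 2 * 2 by rfl, pow_mul, pow_two, pow_two, hx, ht.1])
  exact this

theorem root_commute {x t : G} (hx : x * x = t) : Commute x t := by
  rw [← hx]; exact (Commute.refl x).mul_right (Commute.refl x)

/-- An element centralizing the square of an element of order four fixes or inverts it. -/
theorem root_cases (h : HCN G) {x t g : G} (ht : Inv t) (hx : x * x = t) (hg : Commute g t) :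
    g * x * g⁻¹ = x ∨ g * x * g⁻¹ = x * t := by
  classical
  have hn : g * x * g⁻¹ ∈ zpowers x :=
    (nz_root h ht (hx ▸ mul_mem (mem_zpowers x) (mem_zpowers x)) g).2 hg
  rw [mem_zpowers_iff_mem_range_orderOf, root_orderOf ht hx] at hn
  simp only [Finset.mem_image, Finset.mem_range] at hn
  obtain ⟨k, hk, e⟩ := hn
  have hsq : g * x * g⁻¹ * (g * x * g⁻¹) = t := by
    rw [show g * x * g⁻¹ * (g * x * g⁻¹) = g * (x * x) * g⁻¹ by group, hx, conj_iff_commute.2 hg]
  interval_cases k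
  · exfalso
    rw [pow_zero] at e
    rw [← e, one_mul] at hsq
    exact ht.2 hsq.symm
  · left; rw [← e, pow_one]
  · exfalso
    rw [pow_two, hx] at e
    rw [← e, ht.1] at hsq
    exact ht.2 hsq.symm
  · right; rw [← e, show x ^ 3 = x * (x * x) by rw [pow_succ', pow_two], hx]

theorem nz_odd (h : HCN G) {y t : G} (ht : Inv t) (hy : Commute y t) (ho : Odd (_root_.orderOf y))
    (hy1 : y ≠ 1) (g : G) : Nz g y ↔ Commute g t := by
  obtain ⟨m, hm⟩ := ho
  have hp : ∀ n, (y * t) ^ n = y ^ n * t ^ n := hy.mul_pow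
  have ht2 : t ^ 2 = 1 := by rw [pow_two, ht.1]
  have hy' : y ^ (2 * (m + 1)) = y := by
    rw [show 2 * (m + 1) = 2 * m + 1 + 1 by ring, pow_succ, ← hm, pow_orderOf_eq_one, one_mul]
  have htx : t ∈ zpowers (y * t) :=
    mem_zpowers_iff.2 ⟨(_root_.orderOf y : ℤ), by
      rw [zpow_natCast, hp, pow_orderOf_eq_one, one_mul, hm, pow_succ, pow_mul, ht2, one_pow, one_mul]⟩
  have hyx : y ∈ zpowers (y * t) :=
    mem_zpowers_iff.2 ⟨((2 * (m + 1) : ℕ) : ℤ), by
      rw [zpow_natCast, hp, hy', pow_mul, ht2, one_pow, mul_one]⟩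
  have he : Even (_root_.orderOf (y * t)) :=
    even_iff_two_dvd.2 (ht.orderOf ▸ orderOf_dvd_of_mem_zpowers htx)
  rw [← h (y * t) y g he hyx hy1, nz_root h ht htx]

theorem pow_mul_mem {N : Subgroup G} {y x : G} (hy : y ∈ normalizer (N : Set G)) (hx : x ∈ N) :
    ∀ n : ℕ, (y ^ n)⁻¹ * (y * x) ^ n ∈ N := by
  intro n
  induction n with
  | zero => simp
  | succ n ih =>
    rw [pow_succ, pow_succ, show (y ^ n * y)⁻¹ * ((y * x) ^ n * (y * x)) =
      (y⁻¹ * ((y ^ n)⁻¹ * (y * x) ^ n) * y) * x by group]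
    refine mul_mem ?_ hx
    have := norm_conj (inv_mem hy) ih
    rwa [inv_inv] at this

/-- The odd order elements centralizing `t` (generated). -/
def U (t : G) : Subgroup G := Subgroup.closure {y | Commute y t ∧ Odd (_root_.orderOf y)}

theorem mem_U (h : HCN G) {t : G} (ht : Inv t) {y : G} :
    y ∈ U t ↔ Commute y t ∧ Odd (_root_.orderOf y) := by
  refine ⟨fun hy => ?_, fun hy => subset_closure hy⟩
  let S : Subgroup G :=
    { carrier := {y | Commute y t ∧ Odd (_root_.orderOf y)}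
      one_mem' := ⟨Commute.one_left t, by rw [orderOf_one]; exact odd_one⟩
      inv_mem' := fun {a} ha => ⟨ha.1.inv_left, by rw [orderOf_inv]; exact ha.2⟩
      mul_mem' := by
        rintro a b ⟨ha, hao⟩ ⟨hb, hbo⟩
        refine ⟨ha.mul_left hb, ?_⟩
        by_cases hb1 : b = 1
        · rwa [hb1, mul_one]
        have hn : a ∈ normalizer (zpowers b : Set G) :=
          (nz_iff_mem_normalizer a b).1 ((nz_odd h ht hb hbo hb1 a).2 ha)
        have := pow_mul_mem hn (mem_zpowers b) (_root_.orderOf a)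
        rw [pow_orderOf_eq_one, inv_one, one_mul, mem_zpowers_iff] at this
        obtain ⟨k, hk⟩ := this
        refine (hao.mul hbo).of_dvd_nat (orderOf_dvd_of_pow_eq_one ?_)
        rw [pow_mul, ← hk, ← zpow_natCast, ← zpow_mul, mul_comm, zpow_mul, zpow_natCast, pow_orderOf_eq_one,
          one_zpow] }
  exact (closure_le S).2 (Set.Subset.refl _) hy

theorem U_odd (h : HCN G) {t : G} (ht : Inv t) : Odd (Nat.card (U t)) := by
  by_contra hc
  rw [Nat.not_odd_iff_even, even_iff_two_dvd] at hc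
  haveI : Fact (Nat.Prime 2) := ⟨Nat.prime_two⟩
  obtain ⟨y, hy⟩ := exists_prime_orderOf_dvd_card' 2 hc
  have := ((mem_U h ht).1 y.2).2
  rw [orderOf_coe, hy] at this
  exact absurd this (by decide)

theorem U_conj (h : HCN G) {t g y : G} (ht : Inv t) (hg : Commute g t) (hy : y ∈ U t) :
    g * y * g⁻¹ ∈ U t := by
  rw [mem_U h ht] at hy ⊢
  refine ⟨(hg.mul_left hy.1).mul_left hg.inv_left, ?_⟩
  rw [show g * y * g⁻¹ = MulAut.conj g y from (MulAut.conj_apply g y).symm, MulEquiv.orderOf_eq]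
  exact hy.2

theorem conj_mem_U (h : HCN G) {t y : G} (ht : Inv t) (g : G) :
    g * y * g⁻¹ ∈ U (g * t * g⁻¹) ↔ y ∈ U t := by
  rw [mem_U h ht, mem_U h (ht.conj g)]
  rw [show g * y * g⁻¹ = MulAut.conj g y from (MulAut.conj_apply g y).symm, MulEquiv.orderOf_eq,
    show g * t * g⁻¹ = MulAut.conj g t from (MulAut.conj_apply g t).symm, Commute, SemiconjBy, ← map_mul,
    ← map_mul, EmbeddingLike.apply_eq_iff_eq]
  exact Iff.rfl

theorem U_nz (h : HCN G) {t g y : G} (ht : Inv t) (hy : y ∈ U t) (hy1 : y ≠ 1) :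
    Nz g y ↔ Commute g t :=
  nz_odd h ht ((mem_U h ht).1 hy).1 ((mem_U h ht).1 hy).2 hy1 g

theorem U_comm (h : HCN G) {t a b : G} (ht : Inv t) (ha : a ∈ U t) (hb : b ∈ U t) : Commute a b := by
  by_contra hab
  have hna : ¬ IsMulCommutative ↥(U t) := fun hc => hab (by
    have := hc.is_comm.comm ⟨a, ha⟩ ⟨b, hb⟩
    exact congrArg Subtype.val this)
  have hnorm : ∀ H : Subgroup ↥(U t), H.Normal := fun H => ⟨fun n hn g => by
    by_cases hn1 : (n : G) = 1
    · have : n = 1 := Subtype.ext hn1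
      rw [this]; simp
    have hz : (g : G) * n * (g : G)⁻¹ ∈ zpowers (n : G) :=
      (U_nz h ht n.2 hn1).2 ((mem_U h ht).1 g.2).1
    obtain ⟨k, hk⟩ := mem_zpowers_iff.1 hz
    rw [show g * n * g⁻¹ = n ^ k from Subtype.ext (by simpa using hk.symm)]
    exact zpow_mem hn k⟩
  obtain ⟨Q, -, -, ⟨e⟩, -⟩ := Cfsg.Agent.S4211.result hna hnorm
  have h8 : Nat.card Q ∣ Nat.card ↥(U t) := Subgroup.card_subgroup_dvd_card Q
  rw [Nat.card_congr e.toEquiv, Nat.card_eq_fintype_card, QuaternionGroup.card] at h8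
  exact absurd ((U_odd h ht).of_dvd_nat h8) (by decide)

theorem mem_twoGroup_U (h : HCN G) {t y : G} {P : Subgroup G} (hP : IsPGroup 2 P) (ht : Inv t)
    (hyP : y ∈ P) (hy : y ∈ U t) : y = 1 := by
  obtain ⟨k, hk⟩ := hP ⟨y, hyP⟩
  have hd : _root_.orderOf y ∣ 2 ^ k := orderOf_dvd_of_pow_eq_one (congrArg Subtype.val hk)
  exact orderOf_eq_one_iff.1 (Nat.eq_one_of_dvd_coprimes
    ((Nat.coprime_two_right.2 ((mem_U h ht).1 hy).2).pow_right k) dvd_rfl hd)

/-- A Sylow two subgroup of an involution centralizer covers it modulo `U t`. -/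
theorem decomp (h : HCN G) {t g : G} (ht : Inv t) (P : Sylow 2 G)
    (hP : ∀ s ∈ (P : Subgroup G), Commute s t) (hg : Commute g t) :
    ∃ u ∈ U t, ∃ s ∈ (P : Subgroup G), g = u * s := by
  haveI : Fact (Nat.Prime 2) := ⟨Nat.prime_two⟩
  obtain ⟨C, hC⟩ : ∃ C, C = Subgroup.centralizer ({t} : Set G) := ⟨_, rfl⟩
  have hmC : ∀ x, x ∈ C ↔ Commute x t := fun x => by
    rw [hC, mem_centralizer_singleton_iff]; exact Iff.rfl
  have hUC : U t ≤ C := fun x hx => (hmC x).2 ((mem_U h ht).1 hx).1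
  have hPC : (P : Subgroup G) ≤ C := fun x hx => (hmC x).2 (hP x hx)
  obtain ⟨U', hU'⟩ : ∃ U', U' = (U t).subgroupOf C := ⟨_, rfl⟩
  obtain ⟨P', hP'⟩ : ∃ P', P' = (P : Subgroup G).subgroupOf C := ⟨_, rfl⟩
  haveI : U'.Normal := ⟨fun n hn c => by
    rw [hU', mem_subgroupOf] at hn ⊢
    exact U_conj h ht ((hmC c).1 c.2) hn⟩
  have hq : IsPGroup 2 (C ⧸ U') := by
    intro q
    induction q using QuotientGroup.induction_on with
    | H x =>
      obtain ⟨k, m, hm, hkm⟩ := Nat.exists_eq_pow_mul_and_not_dvd (orderOf_pos (x : G)).ne' 2 (by norm_num)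
      refine ⟨k, ?_⟩
      rw [← QuotientGroup.mk_pow, QuotientGroup.eq_one_iff, hU', mem_subgroupOf, SubgroupClass.coe_pow, mem_U h ht]
      refine ⟨((hmC x).1 x.2).pow_left _, ?_⟩
      rw [orderOf_pow_of_dvd (by positivity) (hkm ▸ dvd_mul_right _ _), hkm,
        Nat.mul_div_cancel_left _ (by positivity), Nat.odd_iff]
      omega
  obtain ⟨k, hk⟩ := IsPGroup.iff_card.1 hq
  have h1 : (U' ⊔ P').index ∣ 2 ^ k := hk ▸ (by rw [← index_eq_card]; exact index_dvd_of_le le_sup_left)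
  have h2 : (U' ⊔ P').index ∣ (P : Subgroup G).index := by
    refine (index_dvd_of_le le_sup_right).trans ?_
    rw [hP']
    exact ⟨C.index, (relIndex_mul_index hPC).symm⟩
  have h3 : Nat.Coprime (2 ^ k) (P : Subgroup G).index :=
    ((Nat.Prime.coprime_iff_not_dvd Nat.prime_two).2 P.not_dvd_index).pow_left k
  have htop : U' ⊔ P' = ⊤ := index_eq_one.1 (Nat.eq_one_of_dvd_coprimes h3 h1 h2)
  have hmem : (⟨g, (hmC g).2 hg⟩ : C) ∈ U' ⊔ P' := htop ▸ mem_top _
  obtain ⟨a, ha, b, hb, e⟩ := mem_sup_of_normal_left.1 hmem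
  rw [hU', mem_subgroupOf] at ha
  rw [hP', mem_subgroupOf] at hb
  exact ⟨a, ha, b, hb, (congrArg Subtype.val e).symm⟩

/-- Roots of distinct commuting involutions commute, or invert each other modulo squares. -/
theorem pair (h : HCN G) {u v x y : G} (hu : Inv u) (hv : Inv v) (hne : u ≠ v) (huv : Commute u v)
    (hx : x * x = u) (hy : y * y = v) :
    Commute x y ∨ (v * x * v⁻¹ = x * u ∧ u * y * u⁻¹ = y * v) := by
  have key : ∀ {u v x y : G}, Inv u → Inv v → u ≠ v → Commute u v → x * x = u → y * y = v →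
      v * x * v⁻¹ = x → Commute x y := by
    intro u v x y hu hv hne huv hx hy hvx
    have hxv : Commute x v := (conj_iff_commute.1 hvx).symm
    rcases root_cases h hv hy hxv with e | e
    · exact conj_iff_commute.1 e
    · exfalso
      have hxy : x * y = y * v * x := mul_inv_eq_iff_eq_mul.1 e
      have hyu : Commute y u := by
        have e2 : y⁻¹ * x * y = v * x := by rw [mul_assoc, hxy]; group
        have e3 : y⁻¹ * u * y = u := by
          calc y⁻¹ * u * y = (y⁻¹ * x * y) * (y⁻¹ * x * y) := by rw [← hx]; group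
            _ = (v * v) * (x * x) := by
                rw [e2, show v * x * (v * x) = v * (x * v) * x by group, hxv.eq]; group
            _ = u := by rw [hv.1, hx, one_mul]
        calc y * u = y * (y⁻¹ * u * y) := by rw [e3]
          _ = u * y := by group
      rcases root_cases h hu hx hyu with e' | e'
      · have : y * v * x = x * y := hxy.symm
        rw [(conj_iff_commute.1 e').symm.eq] at this
        rw [mul_assoc] at this
        have h4 : v * x = x := mul_left_cancel this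
        exact hv.2 (mul_eq_right.1 h4)
      · have hyx : y * x = x * u * y := mul_inv_eq_iff_eq_mul.1 e'
        have : y * x = u * v * (y * x) := by
          calc y * x = x * u * y := hyx
            _ = u * (x * y) := by rw [(root_commute hx).eq]; group
            _ = u * (y * v * x) := by rw [hxy]
            _ = u * v * (y * x) := by rw [(root_commute hy).eq]; group
        exact (hu.mul hv huv hne).2 (mul_eq_right.1 this.symm)
  rcases root_cases h hu hx huv.symm with e | e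
  · exact Or.inl (key hu hv hne huv hx hy e)
  rcases root_cases h hv hy huv with e' | e'
  · exact Or.inl (key hv hu (Ne.symm hne) huv.symm hy hx e').symm
  exact Or.inr ⟨e, e'⟩

theorem mem_zpowers_pow_odd {P : Subgroup G} (hP : IsPGroup 2 P) {w : G} (hw : w ∈ P) {n : ℕ} (hn : Odd n) :
    w ∈ zpowers (w ^ n) := by
  obtain ⟨k, hk⟩ := hP ⟨w, hw⟩
  have hd : _root_.orderOf w ∣ 2 ^ k := orderOf_dvd_of_pow_eq_one (congrArg Subtype.val hk)
  obtain ⟨m, hm⟩ := exists_pow_eq_self_of_coprime (x := w)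
    (((Nat.coprime_two_right.2 hn).pow_right k).coprime_dvd_right hd)
  exact mem_zpowers_iff.2 ⟨m, by rw [zpow_natCast, hm]⟩

/-- In a 2-group roots of distinct commuting involutions commute. -/
theorem pair_two (h : HCN G) {P : Subgroup G} (hP : IsPGroup 2 P) {u v x y : G} (hu : Inv u) (hv : Inv v)
    (hne : u ≠ v) (huv : Commute u v) (hx : x * x = u) (hy : y * y = v) (hxP : x ∈ P) (hyP : y ∈ P) :
    Commute x y := by
  rcases pair h hu hv hne huv hx hy with e | ⟨e1, e2⟩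
  · exact e
  exfalso
  have hxv : x * v * x⁻¹ = u * v := by
    have : v * x = x * u * v := mul_inv_eq_iff_eq_mul.1 e1
    have h' : v * x = u * (x * v) := by rw [this, (root_commute hx).eq]; group
    calc x * v * x⁻¹ = u⁻¹ * (u * (x * v)) * x⁻¹ := by group
      _ = u * v := by rw [← h', hu.inv]; group
  have hyu : y * u * y⁻¹ = v * u := by
    have : u * y = y * v * u := mul_inv_eq_iff_eq_mul.1 e2
    have h' : u * y = v * (y * u) := by rw [this, (root_commute hy).eq]; group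
    calc y * u * y⁻¹ = v⁻¹ * (v * (y * u)) * y⁻¹ := by group
      _ = v * u := by rw [← h', hv.inv]; group
  have hxu : x * u * x⁻¹ = u := conj_iff_commute.2 (root_commute hx)
  have hyv : y * v * y⁻¹ = v := conj_iff_commute.2 (root_commute hy)
  obtain ⟨w, hw⟩ : ∃ w, w = x * y := ⟨_, rfl⟩
  have w1 : w * u * w⁻¹ = v := by
    rw [hw, show x * y * u * (x * y)⁻¹ = x * (y * u * y⁻¹) * x⁻¹ by group, hyu,
      show x * (v * u) * x⁻¹ = (x * v * x⁻¹) * (x * u * x⁻¹) by group, hxv, hxu, huv.eq, mul_assoc, hu.1, mul_one]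
  have w2 : w * v * w⁻¹ = u * v := by
    rw [hw, show x * y * v * (x * y)⁻¹ = x * (y * v * y⁻¹) * x⁻¹ by group, hyv, hxv]
  have w3 : w ^ 3 * u * (w ^ 3)⁻¹ = u := by
    rw [show w ^ 3 * u * (w ^ 3)⁻¹ = w * (w * (w * u * w⁻¹) * w⁻¹) * w⁻¹ by rw [pow_succ, pow_two]; group, w1, w2,
      show w * (u * v) * w⁻¹ = (w * u * w⁻¹) * (w * v * w⁻¹) by group, w1, w2, huv.eq, ← mul_assoc, hv.1, one_mul]
  obtain ⟨k, hk⟩ := mem_zpowers_iff.1 (mem_zpowers_pow_odd hP (hw ▸ mul_mem hxP hyP : w ∈ P) (by decide : Odd 3))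
  have : Commute w u := hk ▸ (conj_iff_commute.1 w3).zpow_left k
  rw [conj_iff_commute.2 this] at w1
  exact hne w1

theorem exists_root {S : Subgroup G} (hS : IsPGroup 2 S) {a : G} (ha : a ∈ S) (ha4 : a * a ≠ 1) :
    ∃ r ∈ zpowers a, Inv (r * r) := by
  obtain ⟨k, hk⟩ := hS ⟨a, ha⟩
  have hk' : a ^ 2 ^ k = 1 := congrArg Subtype.val hk
  obtain ⟨j, hj⟩ := (Nat.dvd_prime_pow Nat.prime_two).1 (orderOf_dvd_of_pow_eq_one hk')
  rcases j with _ | _ | j
  · exact absurd (orderOf_eq_one_iff.1 (by simpa using hj.2)) (fun e : a = 1 => ha4 (by rw [e, mul_one]))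
  · exact absurd ((pow_two a).symm.trans (orderOf_dvd_iff_pow_eq_one.1 (hj.2 ▸ dvd_refl _))) ha4
  · refine ⟨a ^ 2 ^ j, pow_mem (mem_zpowers a) _, ?_, ?_⟩
    · rw [← pow_add, ← pow_add, ← pow_orderOf_eq_one a, hj.2]
      congr 1
      ring
    · rw [← pow_add]
      exact pow_ne_one_of_lt_orderOf (by positivity) (by
        rw [hj.2, pow_succ, pow_succ]; have := Nat.two_pow_pos j; omega)

/-- A 2-group with an element of order four has a central involution with a root. -/
theorem exists_central_root (h : HCN G) {S : Subgroup G} (hS : IsPGroup 2 S) {a : G} (ha : a ∈ S)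
    (ha4 : a * a ≠ 1) :
    ∃ z c : G, Inv z ∧ c ∈ S ∧ c * c = z ∧ ∀ s ∈ S, Commute s z := by
  classical
  haveI : Fact (Nat.Prime 2) := ⟨Nat.prime_two⟩
  have hne : ({c : G | c ∈ S ∧ Inv (c * c)}).Nonempty := by
    obtain ⟨r, hr, hrI⟩ := exists_root hS ha ha4
    exact ⟨r, (zpowers_le.2 ha) hr, hrI⟩
  obtain ⟨c, ⟨hcS, hcI⟩, hmax⟩ := (Set.toFinite {c : G | c ∈ S ∧ Inv (c * c)}).exists_maximalFor
    (fun c => Nat.card (S ⊓ Subgroup.centralizer {c * c} : Subgroup G)) _ hne
  refine ⟨c * c, c, hcI, hcS, rfl, ?_⟩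
  obtain ⟨C, hC⟩ : ∃ C, C = (S ⊓ Subgroup.centralizer {c * c} : Subgroup G) := ⟨_, rfl⟩
  have hmC : ∀ x, x ∈ C ↔ x ∈ S ∧ Commute x (c * c) := fun x => by
    rw [hC, mem_inf, mem_centralizer_singleton_iff]; exact Iff.rfl
  by_contra hcon
  push_neg at hcon
  obtain ⟨s₀, hs₀, hs₀'⟩ := hcon
  have hlt : C.subgroupOf S < ⊤ := lt_top_iff_ne_top.2 fun e =>
    hs₀' ((hmC s₀).1 (mem_subgroupOf.1 (e ▸ mem_top (⟨s₀, hs₀⟩ : S)))).2
  haveI : Group.IsNilpotent S := hS.isNilpotent
  obtain ⟨n, hn, hnC⟩ := SetLike.exists_of_lt (normalizerCondition_of_isNilpotent _ hlt)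
  obtain ⟨k, hk⟩ := hS n
  have hex : ∃ i, n ^ 2 ^ i ∈ C.subgroupOf S := ⟨k, hk ▸ one_mem _⟩
  obtain ⟨i, hi, hi1⟩ : ∃ i, n ^ 2 ^ (i + 1) ∈ C.subgroupOf S ∧ n ^ 2 ^ i ∉ C.subgroupOf S := by
    rcases hfind : Nat.find hex with _ | i
    · exact absurd (by simpa [hfind] using Nat.find_spec hex) hnC
    · exact ⟨i, hfind ▸ Nat.find_spec hex, Nat.find_min hex (by omega)⟩
  obtain ⟨s, hs⟩ : ∃ s : S, s = n ^ 2 ^ i := ⟨_, rfl⟩
  have hsN : s ∈ normalizer (C.subgroupOf S : Set S) := hs ▸ pow_mem hn _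
  rw [← hs] at hi1
  rw [pow_succ, pow_mul, ← hs, pow_two] at hi
  have hsC : ¬ Commute (s : G) (c * c) := fun e => hi1 (mem_subgroupOf.2 ((hmC _).2 ⟨s.2, e⟩))
  have hs2 : Commute ((s : G) * s) (c * c) := ((hmC _).1 (mem_subgroupOf.1 hi)).2
  have hcv : c * c ∈ C := (hmC _).2 ⟨mul_mem hcS hcS, Commute.refl _⟩
  have hsconj : ∀ x ∈ C, (s : G) * x * (s : G)⁻¹ ∈ C ∧ (s : G)⁻¹ * x * s ∈ C := fun x hx => by
    have hxS := ((hmC x).1 hx).1
    constructor
    · exact mem_subgroupOf.1 (norm_conj hsN (mem_subgroupOf.2 hx : (⟨x, hxS⟩ : S) ∈ C.subgroupOf S))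
    · have := mem_subgroupOf.1 (norm_conj (inv_mem hsN)
        (mem_subgroupOf.2 hx : (⟨x, hxS⟩ : S) ∈ C.subgroupOf S))
      simpa using this
  obtain ⟨v', hv'⟩ : ∃ v', v' = (s : G) * (c * c) * (s : G)⁻¹ := ⟨_, rfl⟩
  have hv'I : Inv v' := hv' ▸ hcI.conj _
  have hne' : c * c ≠ v' := fun e => hsC (conj_iff_commute.1 (hv'.symm.trans e.symm))
  have hZ : ∀ x ∈ C, Commute x v' := fun x hx => by
    have h0 := ((hmC _).1 (hsconj x hx).2).2
    have h1 := congrArg (fun a => (s : G) * a * (s : G)⁻¹) h0.eq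
    rw [hv', Commute, SemiconjBy]
    calc x * ((s : G) * (c * c) * (s : G)⁻¹) = (s : G) * ((s : G)⁻¹ * x * s * (c * c)) * (s : G)⁻¹ := by group
      _ = (s : G) * (c * c * ((s : G)⁻¹ * x * s)) * (s : G)⁻¹ := h1
      _ = _ := by group
  have hvv : Commute (c * c) v' := hZ _ hcv
  have hcom : Commute c ((s : G) * c * (s : G)⁻¹) :=
    pair_two h hS hcI hv'I hne' hvv rfl (by rw [hv']; group) hcS (mul_mem (mul_mem s.2 hcS) (inv_mem s.2))
  obtain ⟨d, hd⟩ : ∃ d, d = c * ((s : G) * c * (s : G)⁻¹) := ⟨_, rfl⟩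
  have hd2 : d * d = c * c * v' := by
    rw [hd, hv', show ∀ a b : G, a * b * (a * b) = a * (b * a) * b from fun a b => by group, ← hcom.eq]
    group
  have hdS : d ∈ S := hd ▸ mul_mem hcS (mul_mem (mul_mem s.2 hcS) (inv_mem s.2))
  have hle : C ≤ S ⊓ Subgroup.centralizer {d * d} := fun x hx => mem_inf.2 ⟨((hmC x).1 hx).1, by
    rw [mem_centralizer_singleton_iff, hd2]
    exact (((hmC x).1 hx).2.mul_right (hZ x hx)).eq⟩
  have hsd : (s : G) ∈ S ⊓ Subgroup.centralizer {d * d} := mem_inf.2 ⟨s.2, by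
    rw [mem_centralizer_singleton_iff, hd2]
    refine (conj_iff_commute.1 ?_).eq
    rw [show (s : G) * (c * c * v') * (s : G)⁻¹ = ((s : G) * (c * c) * (s : G)⁻¹) * ((s : G) * v' * (s : G)⁻¹) by group,
      ← hv']
    have : (s : G) * v' * (s : G)⁻¹ = c * c := by
      rw [hv', show (s : G) * ((s : G) * (c * c) * (s : G)⁻¹) * (s : G)⁻¹ =
        ((s : G) * s) * (c * c) * ((s : G) * s)⁻¹ by group, conj_iff_commute.2 hs2]
    rw [this, hvv.eq]⟩
  have hcard : Nat.card C < Nat.card (S ⊓ Subgroup.centralizer {d * d} : Subgroup G) := by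
    refine lt_of_not_ge fun hge => hsC ((hmC _).1 ?_).2
    rw [Subgroup.eq_of_le_of_card_ge hle hge]
    exact hsd
  have hm := hmax (j := d) ⟨hdS, hd2 ▸ hcI.mul hv'I hvv hne'⟩
    (show Nat.card (S ⊓ Subgroup.centralizer {c * c} : Subgroup G) ≤ _ by rw [← hC]; exact hcard.le)
  change Nat.card (S ⊓ Subgroup.centralizer {d * d} : Subgroup G) ≤
    Nat.card (S ⊓ Subgroup.centralizer {c * c} : Subgroup G) at hm
  rw [← hC] at hm
  omega

theorem inv_unique {s u v : G} (hu : u ∈ zpowers s) (hv : v ∈ zpowers s) (hui : Inv u) (hvi : Inv v) :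
    u = v := by
  classical
  have key : ∀ w ∈ zpowers s, Inv w → w = s ^ (_root_.orderOf s / 2) := by
    intro w hw hwi
    rw [mem_zpowers_iff_mem_range_orderOf, Finset.mem_image] at hw
    obtain ⟨i, hi, rfl⟩ := hw
    rw [Finset.mem_range] at hi
    congr 1
    have hd : _root_.orderOf s ∣ 2 * i :=
      orderOf_dvd_of_pow_eq_one (by rw [two_mul, pow_add]; exact hwi.1)
    obtain ⟨q, hq⟩ := hd
    have hi0 : i ≠ 0 := fun e => hwi.2 (by rw [e, pow_zero])
    rcases q with _ | _ | q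
    · omega
    · omega
    · nlinarith
  rw [key u hu hui, key v hv hvi]

/-- Cyclic groups on elements over different involutions meet trivially. -/
theorem inter_trivial {S : Subgroup G} (hS : IsPGroup 2 S) {a b e f k : G} (ha : a ∈ S)
    (he : e ∈ zpowers a) (hf : f ∈ zpowers b) (hei : Inv e) (hfi : Inv f) (hne : e ≠ f)
    (hka : k ∈ zpowers a) (hkb : k ∈ zpowers b) : k = 1 := by
  by_contra hk1
  have hkS : k ∈ S := (zpowers_le.2 ha) hka
  obtain ⟨w, hw, hwi⟩ : ∃ w ∈ zpowers k, Inv w := by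
    by_cases hk2 : k * k = 1
    · exact ⟨k, mem_zpowers k, hk2, hk1⟩
    · obtain ⟨r, hr, hri⟩ := exists_root hS hkS hk2
      exact ⟨r * r, mul_mem hr hr, hri⟩
  exact hne ((inv_unique he ((zpowers_le.2 hka) hw) hei hwi).trans
    (inv_unique hf ((zpowers_le.2 hkb) hw) hfi hwi).symm)

/-- An element commuting with `t` normalizes, and hence centralizes, roots of `t` if it has odd order. -/
theorem root_U (h : HCN G) {t a y : G} (ht : Inv t) (ha : a * a = t) (hy : y ∈ U t) : Commute y a := by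
  obtain ⟨hyt, m, hm⟩ := (mem_U h ht).1 hy
  rcases root_cases h ht ha hyt with e | e
  · exact conj_iff_commute.1 e
  exfalso
  have h2 : y * y * a * (y * y)⁻¹ = a := by
    rw [show y * y * a * (y * y)⁻¹ = y * (y * a * y⁻¹) * y⁻¹ by group, e,
      show y * (a * t) * y⁻¹ = (y * a * y⁻¹) * (y * t * y⁻¹) by group, e, conj_iff_commute.2 hyt,
      mul_assoc, ht.1, mul_one]
  have hya : Commute (y * y) a := conj_iff_commute.1 h2
  have : Commute y a := by
    have h3 := hya.pow_left (m + 1)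
    rwa [← pow_two, ← pow_mul, show 2 * (m + 1) = 2 * m + 1 + 1 by ring, pow_succ, ← hm, pow_orderOf_eq_one,
      one_mul] at h3
  rw [conj_iff_commute.2 this] at e
  exact ht.2 (mul_eq_left.1 e.symm)

/-- An involution centralizing a nontrivial element of `U t` has the same centralizer as `t`. -/
theorem cent_eq' (h : HCN G) {t w y : G} (ht : Inv t) (hw : Inv w) (hy : y ∈ U t) (hy1 : y ≠ 1)
    (hyw : Commute y w) (g : G) : Commute g w ↔ Commute g t := by
  have hyU : y ∈ U w := (mem_U h hw).2 ⟨hyw, ((mem_U h ht).1 hy).2⟩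
  rw [← U_nz h hw hyU hy1, U_nz h ht hy hy1]

end Cfsg.Agent.Classical.CyclicNormalizer
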