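import Cfsg.Agent.Lib.Classical.CyclicNormalizer.Basic

/-!
# 2-groups with roots of two involutions
-/

set_option autoImplicit false
set_option linter.unusedSectionVars false

namespace Cfsg.Agent.Classical.CyclicNormalizer

open Subgroup

variable {G : Type*} [Group G] [Finite G]

/-- A 2-group with a root `c` of a central involution `z` and a root `x` of another one. -/
structure Two (S : Subgroup G) (z c v x : G) : Prop where
  hcn : HCN G
  two : IsPGroup 2 S
  zI : Inv z
  cS : c ∈ S
  cc : c * c = z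
  zc : ∀ s ∈ S, Commute s z
  vI : Inv v
  xS : x ∈ S
  xx : x * x = v
  vz : v ≠ z

variable {S : Subgroup G} {z c v x : G}

theorem sq_commute_root {a : G} : Commute a (a * a) := (Commute.refl a).mul_right (Commute.refl a)

theorem Two.zS (D : Two S z c v x) : z ∈ S := D.cc ▸ mul_mem D.cS D.cS

theorem Two.vS (D : Two S z c v x) : v ∈ S := D.xx ▸ mul_mem D.xS D.xS

theorem Two.comm_c (D : Two S z c v x) {a : G} (ha : a ∈ S) (hi : Inv (a * a)) (hne : a * a ≠ z) :
    Commute a c :=
  pair_two D.hcn D.two hi D.zI hne (D.zc _ (mul_mem ha ha)) rfl D.cc ha D.cS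

theorem Two.same (D : Two S z c v x) {a a' : G} (ha : a ∈ S) (ha' : a' ∈ S) (hi : Inv (a * a))
    (he : a' * a' = a * a) (hne : a * a ≠ z) : Commute a a' := by
  have hca' : Commute a' c := D.comm_c ha' (he ▸ hi) (he ▸ hne)
  have hsq : a' * c * (a' * c) = a * a * z := by
    rw [show a' * c * (a' * c) = a' * (c * a') * c by group, ← hca'.eq, ← he, ← D.cc]; group
  have hez : Commute (a * a) z := D.zc _ (mul_mem ha ha)
  have h1 : Commute a (a' * c) :=
    pair_two D.hcn D.two hi (hi.mul D.zI hez hne)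
      (fun e => D.zI.2 (mul_eq_left.1 e.symm)) ((Commute.refl _).mul_right hez) rfl hsq ha
      (mul_mem ha' D.cS)
  have := h1.mul_right (D.comm_c ha hi hne).inv_right
  rwa [mul_inv_cancel_right] at this

theorem Two.sq_commute_aux (D : Two S z c v x) : ∀ (n : ℕ) (P : Subgroup G), P ≤ S → Nat.card P = n → c ∈ P →
    ∀ a b, a ∈ P → b ∈ P → Inv (a * a) → Inv (b * b) → a * a ≠ z → b * b ≠ z →
      Commute (a * a) (b * b) := by
  intro n
  induction n using Nat.strong_induction_on with
  | _ n ih =>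
  intro P hPS hn hcP a b haP hbP hai hbi haz hbz
  by_cases hab : Commute a b
  · exact ((hab.mul_left hab).mul_right (hab.mul_left hab))
  have key : ∀ a b, a ∈ P → b ∈ P → Inv (a * a) → a * a ≠ z → ¬ Commute a b → Commute a (b * a * b⁻¹) := by
    intro a b haP hbP hai haz hab
    have hca : Commute a c := D.comm_c (hPS haP) hai haz
    haveI : Group.IsNilpotent P := (D.two.to_le hPS).isNilpotent
    obtain ⟨K, hK⟩ : ∃ K : Subgroup P, K = Subgroup.closure {⟨a, haP⟩, ⟨c, hcP⟩} := ⟨_, rfl⟩
    have hKne : K ≠ ⊤ := by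
      intro e
      have hb : (⟨b, hbP⟩ : P) ∈ K := e ▸ mem_top _
      have hle : K ≤ Subgroup.centralizer {(⟨a, haP⟩ : P)} := by
        rw [hK, Subgroup.closure_le]
        rintro w (rfl | rfl)
        · exact mem_centralizer_singleton_iff.2 rfl
        · exact mem_centralizer_singleton_iff.2 (Subtype.ext hca.eq.symm)
      exact hab (congrArg Subtype.val (mem_centralizer_singleton_iff.1 (hle hb))).symm
    obtain ⟨Q, hQ, hKQ⟩ := (eq_top_or_exists_le_coatom K).resolve_left hKne
    haveI : Q.Normal := NormalizerCondition.normal_of_coatom Q normalizerCondition_of_isNilpotent hQ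
    have haQ : (⟨a, haP⟩ : P) ∈ Q := hKQ (hK ▸ subset_closure (Or.inl rfl))
    have hcQ : (⟨c, hcP⟩ : P) ∈ Q := hKQ (hK ▸ subset_closure (Or.inr rfl))
    obtain ⟨R, hR⟩ : ∃ R, R = Q.map P.subtype := ⟨_, rfl⟩
    have hRlt : Nat.card R < n := by
      rw [hR, card_map_of_injective P.subtype_injective, ← hn]
      refine lt_of_le_of_ne (card_le_card_group Q) fun e => hQ.1 (Q.eq_top_of_card_eq e)
    have haR : a ∈ R := hR ▸ mem_map_of_mem P.subtype haQ
    have hcR : c ∈ R := hR ▸ mem_map_of_mem P.subtype hcQ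
    have ha'R : b * a * b⁻¹ ∈ R := hR ▸
      mem_map_of_mem P.subtype (Subgroup.Normal.conj_mem inferInstance _ haQ ⟨b, hbP⟩)
    have hsq : b * a * b⁻¹ * (b * a * b⁻¹) = b * (a * a) * b⁻¹ := by group
    have hne' : b * (a * a) * b⁻¹ ≠ z := fun e => haz (by
      have hbz : b * z * b⁻¹ = z := conj_iff_commute.2 (D.zc b (hPS hbP))
      exact mul_left_cancel (mul_right_cancel (e.trans hbz.symm)))
    have hc2 : Commute (a * a) (b * (a * a) * b⁻¹) := by
      have := ih _ hRlt R ((hR ▸ map_subtype_le Q).trans hPS) rfl hcR a (b * a * b⁻¹) haR ha'R hai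
        (hsq ▸ hai.conj b) haz (hsq ▸ hne')
      rwa [hsq] at this
    have ha'S : b * a * b⁻¹ ∈ S := hPS (mul_mem (mul_mem hbP haP) (inv_mem hbP))
    by_cases e : b * (a * a) * b⁻¹ = a * a
    · exact D.same (hPS haP) ha'S hai (hsq.trans e) haz
    · exact pair_two D.hcn D.two hai (hai.conj b) (Ne.symm e) hc2 rfl hsq (hPS haP) ha'S
  have h1 : Commute a (b * a * b⁻¹) := key a b haP hbP hai haz hab
  have h2 : Commute b (a * b * a⁻¹) := key b a hbP haP hbi hbz (fun e => hab e.symm)
  obtain ⟨d, hd⟩ : ∃ d, d = b * a * b⁻¹ * a⁻¹ := ⟨_, rfl⟩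
  have hda : Commute d a := hd ▸ (h1.symm.mul_left (Commute.refl a).inv_left)
  have hdb : Commute d b := by
    rw [hd, show b * a * b⁻¹ * a⁻¹ = b * (a * b * a⁻¹)⁻¹ by group]
    exact ((Commute.refl b).mul_left h2.symm.inv_left)
  have hb1 : b * a * b⁻¹ = d * a := by rw [hd]; group
  have hbd : b * d * b⁻¹ = d := conj_iff_commute.2 hdb.symm
  have hb2 : b * b * a * (b * b)⁻¹ = d * d * a := by
    rw [show b * b * a * (b * b)⁻¹ = b * (b * a * b⁻¹) * b⁻¹ by group, hb1,
      show b * (d * a) * b⁻¹ = (b * d * b⁻¹) * (b * a * b⁻¹) by group, hbd, hb1]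
    group
  have hbd2 : b * b * (d * d) * (b * b)⁻¹ = d * d :=
    conj_iff_commute.2 ((hdb.symm.mul_left hdb.symm).mul_right (hdb.symm.mul_left hdb.symm))
  have hd4 : d * d * (d * d) = 1 := by
    have h4 : b * b * (b * b * a * (b * b)⁻¹) * (b * b)⁻¹ = a := by
      rw [show b * b * (b * b * a * (b * b)⁻¹) * (b * b)⁻¹ = (b * b * (b * b)) * a * (b * b * (b * b))⁻¹ by group,
        hbi.1]; group
    rw [hb2, show b * b * (d * d * a) * (b * b)⁻¹ = (b * b * (d * d) * (b * b)⁻¹) * (b * b * a * (b * b)⁻¹) by group,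
      hbd2, hb2, ← mul_assoc (d * d)] at h4
    exact mul_eq_right.1 h4
  refine Commute.symm (conj_iff_commute.1 ?_)
  rw [show b * b * (a * a) * (b * b)⁻¹ = (b * b * a * (b * b)⁻¹) * (b * b * a * (b * b)⁻¹) by group, hb2,
    show d * d * a * (d * d * a) = d * d * (a * (d * d)) * a by group, ← (hda.mul_left hda).eq,
    show d * d * (d * d * a) * a = (d * d * (d * d)) * (a * a) by group, hd4, one_mul]

theorem Two.sq_commute (D : Two S z c v x) {a b : G} (ha : a ∈ S) (hb : b ∈ S) (hai : Inv (a * a))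
    (hbi : Inv (b * b)) : Commute (a * a) (b * b) := by
  by_cases e : a * a = z
  · rw [e]; exact (D.zc _ (mul_mem hb hb)).symm
  by_cases e' : b * b = z
  · rw [e']; exact D.zc _ (mul_mem ha ha)
  exact D.sq_commute_aux _ S le_rfl rfl D.cS a b ha hb hai hbi e e'

theorem Two.roots (D : Two S z c v x) {a b : G} (ha : a ∈ S) (hb : b ∈ S) (hai : Inv (a * a))
    (hbi : Inv (b * b)) : Commute a b := by
  by_cases e : b * b = a * a
  · by_cases hz : a * a = z
    · have hxz : Commute v z := D.zc _ D.vS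
      have hax : Commute a x :=
        pair_two D.hcn D.two hai D.vI (hz ▸ Ne.symm D.vz) (hz ▸ hxz.symm) rfl D.xx ha D.xS
      have hbx : Commute b x :=
        pair_two D.hcn D.two hbi D.vI ((e.trans hz) ▸ Ne.symm D.vz) ((e.trans hz) ▸ hxz.symm) rfl D.xx hb D.xS
      have hsq : b * x * (b * x) = z * v := by
        rw [show b * x * (b * x) = b * (x * b) * x by group, ← hbx.eq, ← hz, ← e, ← D.xx]; group
      have h1 : Commute a (b * x) :=
        pair_two D.hcn D.two hai (D.zI.mul D.vI hxz.symm (Ne.symm D.vz))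
          (hz ▸ fun e' => D.vI.2 (mul_eq_left.1 e'.symm)) (hz ▸ (Commute.refl z).mul_right hxz.symm) rfl hsq ha
          (mul_mem hb D.xS)
      have := h1.mul_right hax.inv_right
      rwa [mul_inv_cancel_right] at this
    · exact D.same ha hb hai e hz
  · exact pair_two D.hcn D.two hai hbi (Ne.symm e) (D.sq_commute ha hb hai hbi) rfl rfl ha hb

/-- Elements that are not involutions centralize `c`. -/
theorem Two.comm_of_order (D : Two S z c v x) {s : G} (hs : s ∈ S) (hs2 : s * s ≠ 1) : Commute s c := by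
  obtain ⟨s₀, hs₀, hs₀i⟩ := exists_root D.two hs hs2
  have hs₀S : s₀ ∈ S := (zpowers_le.2 hs) hs₀
  have hg : s₀ * s₀ ∈ zpowers s := mul_mem hs₀ hs₀
  rcases root_cases D.hcn D.zI D.cc (D.zc s hs) with e | e
  · exact conj_iff_commute.1 e
  exfalso
  have hcg : Commute c (s₀ * s₀) := (D.roots D.cS hs₀S (D.cc.symm ▸ D.zI) hs₀i).mul_right
    (D.roots D.cS hs₀S (D.cc.symm ▸ D.zI) hs₀i)
  by_cases hgz : s₀ * s₀ = z
  · have hzs : z ∈ zpowers s := hgz ▸ hg
    have hxs : x * s * x⁻¹ ∈ zpowers s := (nz_root D.hcn D.zI hzs x).2 (D.zc x D.xS)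
    obtain ⟨x', hx'⟩ : ∃ x', x' = s * x * s⁻¹ := ⟨_, rfl⟩
    obtain ⟨j, hj⟩ : ∃ j, j = x' * x⁻¹ := ⟨_, rfl⟩
    have hjs : j ∈ zpowers s := by
      rw [hj, hx', show s * x * s⁻¹ * x⁻¹ = s * (x * s * x⁻¹)⁻¹ by group]
      exact mul_mem (mem_zpowers s) (inv_mem hxs)
    have hx'S : x' ∈ S := hx' ▸ mul_mem (mul_mem hs D.xS) (inv_mem hs)
    have hsq : x' * x' = s * v * s⁻¹ := by rw [hx', ← D.xx]; group
    have hxx' : Commute x' x := D.roots hx'S D.xS (hsq ▸ D.vI.conj s) (D.xx.symm ▸ D.vI)
    have hjx : Commute j x := hj ▸ hxx'.mul_left (Commute.refl x).inv_left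
    have hx'j : x' = j * x := by rw [hj]; group
    have hj4 : j * j * (j * j) = 1 := by
      have h4 : (x' * x') * (x' * x') = 1 := by rw [hsq]; exact (D.vI.conj s).1
      rw [hx'j, show j * x * (j * x) = j * (x * j) * x by group, ← hjx.eq,
        show j * (j * x) * x = (j * j) * (x * x) by group, D.xx,
        show j * j * v * (j * j * v) = j * j * (v * (j * j)) * v by group] at h4
      have hv : Commute v (j * j) := D.xx ▸ ((hjx.mul_left hjx).mul_right (hjx.mul_left hjx)).symm
      rw [hv.eq, show j * j * (j * j * v) * v = j * j * (j * j) * (v * v) by group, D.vI.1, mul_one] at h4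
      exact h4
    by_cases hj1 : j = 1
    · rw [hj1, one_mul] at hx'j
      have hsx : Commute s x := conj_iff_commute.1 (hx'.symm.trans hx'j)
      have hsv : Commute s v := D.xx ▸ hsx.mul_right hsx
      have hcx : Commute x c := D.comm_c D.xS (D.xx.symm ▸ D.vI) (D.xx.symm ▸ D.vz)
      have hsq2 : x * c * (x * c) = v * z := by
        rw [show x * c * (x * c) = x * (c * x) * c by group, ← hcx.eq, ← D.cc, ← D.xx]; group
      have hconj : s * (x * c) * s⁻¹ = x * c * z := by
        rw [show s * (x * c) * s⁻¹ = (s * x * s⁻¹) * (s * c * s⁻¹) by group, conj_iff_commute.2 hsx, e]; group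
      rcases root_cases D.hcn (D.vI.mul D.zI (D.zc v D.vS) D.vz) hsq2 (hsv.mul_right (D.zc s hs)) with e2 | e2
      · exact D.zI.2 (mul_eq_left.1 (hconj.symm.trans e2))
      · exact D.vI.2 (mul_eq_right.1 (mul_left_cancel (hconj.symm.trans e2)).symm)
    by_cases hj2 : j * j = 1
    · have hjz : j = z := inv_unique hjs hzs ⟨hj2, hj1⟩ D.zI
      have hsv : Commute s v := by
        refine conj_iff_commute.1 ?_
        rw [← hsq, hx'j, show j * x * (j * x) = j * (x * j) * x by group, ← hjx.eq,
          show j * (j * x) * x = (j * j) * (x * x) by group, hj2, one_mul, D.xx]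
      rcases root_cases D.hcn D.vI D.xx hsv with e2 | e2
      · rw [← hx', hx'j, hjz] at e2
        exact D.zI.2 (mul_eq_right.1 e2)
      · rw [← hx', hx'j, hjz, ← (D.zc x D.xS).eq] at e2
        exact D.vz (mul_left_cancel e2).symm
    · have hjz : j * j = z := inv_unique (mul_mem hjs hjs) hzs ⟨hj4, hj2⟩ D.zI
      obtain ⟨k, hk⟩ := mem_zpowers_iff.1 hjs
      have hsj : Commute s j := hk ▸ Commute.self_zpow s k
      have hx'' : s * s * x * (s * s)⁻¹ = z * x := by
        rw [show s * s * x * (s * s)⁻¹ = s * (s * x * s⁻¹) * s⁻¹ by group, ← hx', hx'j,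
          show s * (j * x) * s⁻¹ = (s * j * s⁻¹) * (s * x * s⁻¹) by group, conj_iff_commute.2 hsj, ← hx', hx'j,
          ← mul_assoc, hjz]
      have hsv : Commute (s * s) v := by
        refine conj_iff_commute.1 ?_
        rw [← D.xx, show s * s * (x * x) * (s * s)⁻¹ = (s * s * x * (s * s)⁻¹) * (s * s * x * (s * s)⁻¹) by group,
          hx'', show z * x * (z * x) = z * (x * z) * x by group, (D.zc x D.xS).eq,
          show z * (z * x) * x = z * z * (x * x) by group, D.zI.1, one_mul]
      rcases root_cases D.hcn D.vI D.xx hsv with e2 | e2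
      · exact D.zI.2 (mul_eq_right.1 (hx''.symm.trans e2))
      · rw [hx'', ← (D.zc x D.xS).eq] at e2
        exact D.vz (mul_left_cancel e2).symm
  · have hcs : c * s * c⁻¹ ∈ zpowers s := (nz_root D.hcn hs₀i hg c).2 hcg
    have hzs : z ∈ zpowers s := by
      have h1 : s * c = c * z * s := mul_inv_eq_iff_eq_mul.1 e
      have h2 : c⁻¹ * s * c = z * s := by rw [mul_assoc, h1]; group
      have hn : c⁻¹ * s * c⁻¹⁻¹ ∈ zpowers s := (nz_root D.hcn hs₀i hg c⁻¹).2 hcg.inv_left
      rw [inv_inv, h2] at hn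
      have := mul_mem hn (inv_mem (mem_zpowers s))
      rwa [mul_inv_cancel_right] at this
    exact hgz (inv_unique hg hzs hs₀i D.zI)

/-- Elements centralizing `c` centralize all roots. -/
theorem Two.comm_roots (D : Two S z c v x) {s a : G} (hs : s ∈ S) (hsc : Commute s c) (ha : a ∈ S)
    (hai : Inv (a * a)) : Commute s a := by
  have key : ∀ {s a : G}, s ∈ S → Commute s c → a ∈ S → Inv (a * a) → a * a ≠ z →
      Commute s (a * a) → Commute s a := by
    intro s a hs hsc ha hai haz hse
    rcases root_cases D.hcn hai rfl hse with e | e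
    · exact conj_iff_commute.1 e
    exfalso
    have hac : Commute a c := D.comm_c ha hai haz
    have hz : Commute (a * a) z := D.zc _ (mul_mem ha ha)
    have hsq : a * c * (a * c) = a * a * z := by
      rw [show a * c * (a * c) = a * (c * a) * c by group, ← hac.eq, ← D.cc]; group
    have hconj : s * (a * c) * s⁻¹ = a * c * (a * a) := by
      rw [show s * (a * c) * s⁻¹ = (s * a * s⁻¹) * (s * c * s⁻¹) by group, conj_iff_commute.2 hsc, e,
        mul_assoc a (a * a) c, (hac.mul_left hac).eq]
      group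
    rcases root_cases D.hcn (hai.mul D.zI hz haz) hsq (hse.mul_right (D.zc s hs)) with e2 | e2
    · exact hai.2 (mul_eq_left.1 (hconj.symm.trans e2))
    · exact D.zI.2 (mul_eq_left.1 (mul_left_cancel (hconj.symm.trans e2)).symm)
  have main : ∀ {a : G}, a ∈ S → Inv (a * a) → a * a ≠ z → Commute s a := by
    intro a ha hai haz
    by_cases hse : Commute s (a * a)
    · exact key hs hsc ha hai haz hse
    by_cases hs1 : s = 1
    · rw [hs1]; exact Commute.one_left a
    by_cases hs2 : s * s = 1
    · have hsq : s * c * (s * c) = z := by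
        rw [show s * c * (s * c) = s * (c * s) * c by group, ← hsc.eq,
          show s * (s * c) * c = s * s * (c * c) by group, hs2, one_mul, D.cc]
      have h1 : Commute (s * c) a := D.roots (mul_mem hs D.cS) ha (hsq.symm ▸ D.zI) hai
      have := h1.mul_left (D.comm_c ha hai haz).symm.inv_left
      rwa [mul_inv_cancel_right] at this
    by_cases hs4 : s * s * (s * s) = 1
    · exact D.roots hs ha ⟨hs4, hs2⟩ hai
    exfalso
    obtain ⟨r, hr, hri⟩ := exists_root D.two hs hs2
    have hg : r * r ∈ zpowers s := mul_mem hr hr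
    have hag : Commute a (r * r) := by
      have := D.roots ha ((zpowers_le.2 hs) hr) hai hri
      exact this.mul_right this
    have has : a * s * a⁻¹ ∈ zpowers s := (nz_root D.hcn hri hg a).2 hag
    obtain ⟨a', ha'⟩ : ∃ a', a' = s * a * s⁻¹ := ⟨_, rfl⟩
    obtain ⟨j, hj⟩ : ∃ j, j = a' * a⁻¹ := ⟨_, rfl⟩
    have hjs : j ∈ zpowers s := by
      rw [hj, ha', show s * a * s⁻¹ * a⁻¹ = s * (a * s * a⁻¹)⁻¹ by group]
      exact mul_mem (mem_zpowers s) (inv_mem has)
    have ha'S : a' ∈ S := ha' ▸ mul_mem (mul_mem hs ha) (inv_mem hs)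
    have hsq : a' * a' = s * (a * a) * s⁻¹ := by rw [ha']; group
    have haa' : Commute a' a := D.roots ha'S ha (hsq ▸ hai.conj s) hai
    have hja : Commute j a := hj ▸ haa'.mul_left (Commute.refl a).inv_left
    have ha'j : a' = j * a := by rw [hj]; group
    have hjj : a' * a' = j * j * (a * a) := by
      rw [ha'j, show j * a * (j * a) = j * (a * j) * a by group, ← hja.eq]; group
    by_cases hj2 : j * j = 1
    · exact hse (conj_iff_commute.1 (by rw [← hsq, hjj, hj2, one_mul]))
    obtain ⟨k, hk⟩ := mem_zpowers_iff.1 hjs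
    have hsj : Commute s j := hk ▸ Commute.self_zpow s k
    have ha'' : s * s * a * (s * s)⁻¹ = j * j * a := by
      rw [show s * s * a * (s * s)⁻¹ = s * (s * a * s⁻¹) * s⁻¹ by group, ← ha', ha'j,
        show s * (j * a) * s⁻¹ = (s * j * s⁻¹) * (s * a * s⁻¹) by group, conj_iff_commute.2 hsj, ← ha', ha'j,
        ← mul_assoc]
    have hj4 : j * j * (j * j) = 1 := by
      have h4 : a' * a' * (a' * a') = 1 := by rw [hsq]; exact (hai.conj s).1
      have hc' : Commute (a * a) (j * j) := ((hja.mul_left hja).mul_right (hja.mul_left hja)).symm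
      rw [hjj, show j * j * (a * a) * (j * j * (a * a)) = j * j * ((a * a) * (j * j)) * (a * a) by group, hc'.eq,
        show j * j * (j * j * (a * a)) * (a * a) = j * j * (j * j) * (a * a * (a * a)) by group, hai.1, mul_one] at h4
      exact h4
    have hse2 : Commute (s * s) (a * a) := by
      refine conj_iff_commute.1 ?_
      rw [show s * s * (a * a) * (s * s)⁻¹ = (s * s * a * (s * s)⁻¹) * (s * s * a * (s * s)⁻¹) by group, ha'',
        show j * j * a * (j * j * a) = j * j * (a * (j * j)) * a by group, ← (hja.mul_left hja).eq,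
        show j * j * (j * j * a) * a = j * j * (j * j) * (a * a) by group, hj4, one_mul]
    have := key (mul_mem hs hs) (hsc.mul_left hsc) ha hai haz hse2
    rw [conj_iff_commute.2 this] at ha''
    exact hj2 (mul_eq_right.1 ha''.symm)
  by_cases haz : a * a = z
  · have hax : Commute a x := D.roots ha D.xS hai (D.xx.symm ▸ D.vI)
    have hsq : a * x * (a * x) = z * v := by
      rw [show a * x * (a * x) = a * (x * a) * x by group, ← hax.eq, ← haz, ← D.xx]; group
    have h1 : Commute s (a * x) :=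
      main (mul_mem ha D.xS) (hsq.symm ▸ D.zI.mul D.vI (D.zc v D.vS).symm (Ne.symm D.vz))
        (hsq.symm ▸ fun e => D.vI.2 (mul_eq_left.1 e))
    have := h1.mul_right (main D.xS (D.xx.symm ▸ D.vI) (D.xx.symm ▸ D.vz)).inv_right
    rwa [mul_inv_cancel_right] at this
  · exact main ha hai haz

end Cfsg.Agent.Classical.CyclicNormalizer
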