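import Cfsg.Agent.Lib.Classical.CyclicNormalizer.Sylow
import Cfsg.Agent.Lib.Char.BSW.DihedralWall
import Cfsg.Agent.Lib.Classical.Dickson.Recognition
import Cfsg.Agent.Lib.Classical.Dickson.Tools
import Cfsg.Agent.Lib.Fusion.NPC
import Cfsg.Agent.Lib.Small.SmallOrders
import Cfsg.Agent.S0205

/-!
# Simple groups whose even order cyclic subgroups share the normalizer with their subgroups
-/

set_option autoImplicit false
set_option linter.unusedSectionVars false
set_option linter.style.haveILetI false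

namespace Cfsg.Agent.Classical.CyclicNormalizer

open Subgroup Cfsg

variable {G : Type*} [Group G] [Finite G]

/-- `U t` is the odd core of the centralizer. -/
theorem oddCore_eq_U (h : HCN G) {t : G} (ht : Inv t) :
    U t = (Cfsg.oddCore (Subgroup.centralizer ({t} : Set G))).map (Subgroup.centralizer ({t} : Set G)).subtype := by
  have hmC : ∀ x, x ∈ Subgroup.centralizer ({t} : Set G) ↔ Commute x t := fun x => by
    rw [mem_centralizer_singleton_iff]; exact Iff.rfl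
  refine le_antisymm (fun y hy => ?_) ?_
  · haveI : ((U t).subgroupOf (Subgroup.centralizer ({t} : Set G))).Normal := ⟨fun n hn c => by
      rw [mem_subgroupOf] at hn ⊢
      exact U_conj h ht ((hmC c).1 c.2) hn⟩
    have hle : U t ≤ Subgroup.centralizer ({t} : Set G) := fun x hx => (hmC x).2 ((mem_U h ht).1 hx).1
    have hco : (Nat.card ↥((U t).subgroupOf (Subgroup.centralizer ({t} : Set G)))).Coprime 2 := by
      rw [Nat.card_congr (subgroupOfEquivOfLe hle).toEquiv]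
      exact Nat.coprime_two_right.2 (U_odd h ht)
    have hsub : (U t).subgroupOf (Subgroup.centralizer ({t} : Set G)) ≤
        Cfsg.oddCore ↥(Subgroup.centralizer ({t} : Set G)) := le_sSup ⟨inferInstance, hco⟩
    exact ⟨⟨y, hle hy⟩, hsub (mem_subgroupOf.2 hy), rfl⟩
  · rintro _ ⟨y, hy, rfl⟩
    refine (mem_U h ht).2 ⟨(hmC _).1 y.2, ?_⟩
    rw [Subgroup.coe_subtype, Subgroup.orderOf_coe]
    exact (Char.card_oddCore_odd _).of_dvd_nat (Subgroup.orderOf_dvd_natCard _ hy)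

theorem U_bot_iff {t : G} : U t = ⊥ ↔ ∀ y ∈ U t, y = 1 :=
  ⟨fun e _ hy => Subgroup.mem_bot.1 (e ▸ hy), fun e => (eq_bot_iff).2 fun y hy => Subgroup.mem_bot.2 (e y hy)⟩

theorem U_eq (h : HCN G) {t w : G} (ht : Inv t) (hw : Inv w)
    (he : ∀ g, Commute g w ↔ Commute g t) : U w = U t := by
  ext y
  rw [mem_U h hw, mem_U h ht, he]

theorem exists_ne_one {H : Subgroup G} (hH : H ≠ ⊥) : ∃ y ∈ H, y ≠ 1 := by
  by_contra hc
  push_neg at hc
  exact hH (eq_bot_iff.2 fun y hy => Subgroup.mem_bot.2 (hc y hy))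

/-- An element normalizing a part of `U t` moves `t` to an involution with the same centralizer. -/
theorem norm_cent (h : HCN G) {t : G} (ht : Inv t) {Y : Subgroup G} (hY : Y ≤ U t) (hY1 : Y ≠ ⊥)
    {n : G} (hn : n ∈ normalizer (Y : Set G)) :
    Inv (n * t * n⁻¹) ∧ (∀ g, Commute g (n * t * n⁻¹) ↔ Commute g t) := by
  obtain ⟨y, hyY, hy1⟩ := exists_ne_one hY1
  have hy' : n * y * n⁻¹ ∈ U t := hY (norm_conj hn hyY)
  refine ⟨ht.conj n, cent_eq' h ht (ht.conj n) hy' (fun e => hy1 (conj_eq_one_iff.1 e)) ?_⟩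
  have h1 := ((mem_U h ht).1 (hY hyY)).1
  rw [Commute, SemiconjBy, show n * y * n⁻¹ * (n * t * n⁻¹) = n * (y * t) * n⁻¹ by group, h1.eq]
  group

theorem mem_sylow_of_commute (S : Sylow 2 G) {z : G} (hz : Inv z)
    (hc : ∀ s ∈ (S : Subgroup G), Commute z s) : z ∈ (S : Subgroup G) := by
  haveI : Fact (Nat.Prime 2) := ⟨Nat.prime_two⟩
  have hle : zpowers z ≤ normalizer ((S : Subgroup G) : Set G) := zpowers_le.2 (mem_norm fun s hs => by
    rwa [(hc s hs).eq, mul_inv_cancel_right])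
  have hp : IsPGroup 2 (zpowers z ⊔ (S : Subgroup G) : Subgroup G) :=
    IsPGroup.to_sup_of_normal_right' (IsPGroup.of_card (n := 1) (by rw [Nat.card_zpowers, hz.orderOf, pow_one]))
      S.isPGroup' hle
  rw [← S.is_maximal' hp le_sup_right]
  exact le_sup_left (α := Subgroup G) (mem_zpowers z)

variable [IsSimpleGroup G]

theorem exists_involution (hna : ∃ a b : G, a * b ≠ b * a) : 2 ∣ Nat.card G := by
  by_contra h2
  haveI := Cfsg.Agent.S0205.result (G := G) (Nat.odd_iff.2 (by omega))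
  obtain ⟨a, b, hab⟩ := hna
  exact hab (IsSimpleGroup.comm_iff_isSolvable.2 inferInstance a b)

theorem sylow_not_normal (hna : ∃ a b : G, a * b ≠ b * a) (S : Sylow 2 G) :
    ¬ (S : Subgroup G).Normal := fun hn => by
  haveI : Fact (Nat.Prime 2) := ⟨Nat.prime_two⟩
  rcases hn.eq_bot_or_eq_top with e | e
  · exact absurd (e ▸ S.card_eq_multiplicity) (by
      rw [Subgroup.card_bot]
      exact (Nat.one_lt_pow (Nat.Prime.factorization_pos_of_dvd Nat.prime_two Nat.card_pos.ne'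
        (exists_involution hna)).ne' (by norm_num)).ne)
  · haveI : Group.IsNilpotent ↥(S : Subgroup G) := S.isPGroup'.isNilpotent
    haveI : Group.IsNilpotent G :=
      Group.nilpotent_of_mulEquiv ((MulEquiv.subgroupCongr e).trans Subgroup.topEquiv)
    obtain ⟨a, b, hab⟩ := hna
    exact hab (IsSimpleGroup.comm_iff_isSolvable.2 inferInstance a b)

/-- The dihedral case. -/
theorem psl_of_dihedral (hna : ∃ a b : G, a * b ≠ b * a) (h : HCN G) (S : Sylow 2 G) (B : Subgroup G)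
    (hBS : B ≤ (S : Subgroup G)) (hBc : IsCyclic ↥B) {t : G} (ht : Inv t) (htB : t ∈ B)
    (htZ : ∀ s ∈ (S : Subgroup G), Commute s t) {s₀ : G} (hs₀ : s₀ ∈ (S : Subgroup G)) (hs₀B : s₀ ∉ B)
    (hout : ∀ s ∈ (S : Subgroup G), s ∉ B → s * s = 1 ∧ ∀ b ∈ B, s * b * s⁻¹ = b⁻¹)
    (hidx : ∀ p ∈ (S : Subgroup G), ∀ q ∈ (S : Subgroup G), p ∉ B → q ∉ B → p * q ∈ B)
    (hU : ∀ y ∈ U t, y ≠ 1 → ∀ s ∈ (S : Subgroup G), (Commute s y ↔ s ∈ B))
    (hfix : ∀ z, Inv z → z ∈ (S : Subgroup G) → (∀ g, Commute g z ↔ Commute g t) → U t ≠ ⊥ → z = t) :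
    ∃ (F : Type) (_ : Field F) (_ : Fintype F), 3 < Fintype.card F ∧
      Nonempty (G ≃* Matrix.ProjectiveSpecialLinearGroup (Fin 2) F) := by
  classical
  haveI : Fact (Nat.Prime 2) := ⟨Nat.prime_two⟩
  haveI := Fintype.ofFinite G
  have hrel : B.relIndex (S : Subgroup G) = 2 := by
    rw [Subgroup.relIndex, Subgroup.index_eq_two_iff]
    refine ⟨⟨s₀, hs₀⟩, fun b => ?_⟩
    rw [mem_subgroupOf, mem_subgroupOf, Subgroup.coe_mul]
    by_cases hb : (b : G) ∈ B
    · exact Or.inr ⟨hb, fun hbs => hs₀B (by have := mul_mem (inv_mem hb) hbs; simpa using this)⟩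
    · exact Or.inl ⟨hidx b b.2 s₀ hs₀ hb hs₀B, hb⟩
  have hB2 : 2 ≤ Nat.card B := by
    have := Subgroup.orderOf_dvd_natCard B htB
    rw [ht.orderOf] at this
    exact Nat.le_of_dvd Nat.card_pos this
  haveI : IsCyclic ↥(B.subgroupOf (S : Subgroup G)) :=
    isCyclic_of_surjective (subgroupOfEquivOfLe hBS).symm (subgroupOfEquivOfLe hBS).symm.surjective
  obtain ⟨e⟩ := Classical.Dickson.dihedral_of (P := ↥(S : Subgroup G)) (C := B.subgroupOf (S : Subgroup G))
    inferInstance (t := ⟨s₀, hs₀⟩) (fun e => hs₀B (mem_subgroupOf.1 e)) (Subtype.ext (hout s₀ hs₀ hs₀B).1)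
    (fun b hb => Subtype.ext ((hout s₀ hs₀ hs₀B).2 b (mem_subgroupOf.1 hb)))
    (by rw [← Subgroup.card_mul_index (B.subgroupOf (S : Subgroup G)), ← Subgroup.relIndex, hrel, mul_comm])
  have hn : 2 ≤ Nat.card ↥(B.subgroupOf (S : Subgroup G)) := by
    rwa [Nat.card_congr (subgroupOfEquivOfLe hBS).toEquiv]
  obtain ⟨F, iF, iT, hodd, ⟨φ⟩⟩ := Char.BSW.psl_of_dihedral_wall S hn e ht.orderOf (hBS htB)
    (fun s hs => (htZ s hs).eq) (U t) (oddCore_eq_U h ht) (fun hne => by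
      obtain ⟨y, hy, hy1⟩ := exists_ne_one hne
      have heq : ((S : Subgroup G) ⊓ Subgroup.centralizer (U t : Set G) : Subgroup G) = B := by
        ext s
        rw [mem_inf, mem_centralizer_iff]
        refine ⟨fun hs => (hU y hy hy1 s hs.1).1 (hs.2 y hy).symm, fun hs => ⟨hBS hs, fun y' hy' => ?_⟩⟩
        by_cases hy'1 : y' = 1
        · simp [hy'1]
        · exact ((hU y' hy' hy'1 s (hBS hs)).2 hs).symm
      exact ⟨heq ▸ hBc, heq ▸ hrel⟩)
    (fun s hs hnc y hy => by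
      have hne : ∀ y' ∈ U t, s * y' * s⁻¹ = y' → y' = 1 := fun y' hy' e' => by
        by_contra hy'1
        have hsB : s ∈ B := (hU y' hy' hy'1 s hs).1 (conj_iff_commute.1 e')
        refine hnc (mem_centralizer_iff.2 fun w hw => ?_)
        by_cases hw1 : w = 1
        · simp [hw1]
        · exact ((hU w hw hw1 s hs).2 hsB).symm
      have hsB : s ∉ B := fun hsB => hnc (mem_centralizer_iff.2 fun w hw => by
        by_cases hw1 : w = 1
        · simp [hw1]
        · exact ((hU w hw hw1 s hs).2 hsB).symm)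
      exact Char.BSW.fpf_inverts (hout s hs hsB).1
        (mem_norm fun w hw => U_conj h ht (htZ s hs) hw) hne y hy)
    (fun Y hY hY1 n hn => by
      rw [mem_centralizer_singleton_iff]
      obtain ⟨hzI, hz⟩ := norm_cent h ht hY hY1 hn
      have hzS : n * t * n⁻¹ ∈ (S : Subgroup G) :=
        mem_sylow_of_commute S hzI fun s hs => ((hz s).2 (htZ s hs)).symm
      exact (conj_iff_commute.1 (hfix _ hzI hzS hz fun e' => hY1 (le_bot_iff.1 (e' ▸ hY)))).eq)
  refine ⟨F, iF, iT, ?_, ⟨φ⟩⟩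
  have hF := Fintype.one_lt_card (α := F)
  by_contra hle
  have h3 : Fintype.card F = 3 := by
    rcases hodd with ⟨k, hk⟩
    omega
  have hc := Classical.Dickson.card_psl F
  rw [h3, ← Nat.card_congr φ.toEquiv, show Nat.gcd 2 (3 - 1) = 2 from rfl] at hc
  have h12 : Nat.card G = 12 := by omega
  have hS4 : Nat.card (S : Subgroup G) = 4 := by
    rw [S.card_eq_multiplicity, h12, show (12 : ℕ) = 2 ^ 2 * 3 from rfl, Nat.factorization_mul (by norm_num)
      (by norm_num), Finsupp.add_apply, Nat.Prime.factorization_pow Nat.prime_two]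
    simp [Nat.factorization_eq_zero_of_not_dvd (show ¬ 2 ∣ 3 by norm_num)]
  have hne : (S : Subgroup G) ≠ ⊤ := fun e' => by
    rw [e', Nat.card_congr Subgroup.topEquiv.toEquiv, h12] at hS4; omega
  have hd := Small.SmallOrders.card_dvd_index_factorial (S : Subgroup G) hne
  have hi := Subgroup.card_mul_index (S : Subgroup G)
  rw [hS4, h12] at hi
  rw [show (S : Subgroup G).index = 3 by omega, h12] at hd
  exact absurd hd (by decide)

/-- The elementary abelian case with all of the Sylow subgroup centralizing every `U`. -/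
theorem psl_of_iac (hna : ∃ a b : G, a * b ≠ b * a) (S : Sylow 2 G)
    (hS4 : 4 ≤ Nat.card (S : Subgroup G)) (hnc : ¬ IsCyclic ↥(S : Subgroup G)) (hiac : InvAb.IAC G) :
    ∃ (F : Type) (_ : Field F) (_ : Fintype F), 3 < Fintype.card F ∧
      Nonempty (G ≃* Matrix.ProjectiveSpecialLinearGroup (Fin 2) F) := by
  classical
  haveI : Fact (Nat.Prime 2) := ⟨Nat.prime_two⟩
  obtain ⟨F, iF, iT, A, _, _, hchar, hodd, ⟨φ⟩⟩ :=
    InvAb.exists_iso hiac S hnc (sylow_not_normal hna S)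
  haveI := hchar
  obtain ⟨f, hf⟩ : ∃ f : G →* A, f = (MonoidHom.snd _ A).comp φ.toMonoidHom := ⟨_, rfl⟩
  have hA : ∀ a : A, a = 1 := by
    rcases (MonoidHom.normal_ker f).eq_bot_or_eq_top with e | e
    · obtain ⟨a, b, hab⟩ := hna
      exact absurd ((MonoidHom.ker_eq_bot_iff f).1 e (by rw [map_mul, map_mul, mul_comm])) hab
    · intro a
      have := MonoidHom.mem_ker.1 (e ▸ mem_top (φ.symm (1, a)))
      simpa [hf] using this
  haveI : Subsingleton A := ⟨fun a b => (hA a).trans (hA b).symm⟩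
  let ψ : G ≃* Matrix.SpecialLinearGroup (Fin 2) F :=
    φ.trans { toFun := Prod.fst
              invFun := fun m => (m, 1)
              left_inv := fun p => Prod.ext rfl (Subsingleton.elim _ _)
              right_inv := fun _ => rfl
              map_mul' := fun _ _ => rfl }
  have hZ : Subgroup.center (Matrix.SpecialLinearGroup (Fin 2) F) = ⊥ := by
    refine (eq_bot_iff).2 fun m hm => Subgroup.mem_bot.2 ?_
    have : ψ.symm m ∈ Subgroup.center G := Subgroup.mem_center_iff.2 fun g => ψ.injective (by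
      rw [map_mul, map_mul, ψ.apply_symm_apply]; exact Subgroup.mem_center_iff.1 hm _)
    rw [center_eq_bot hna, Subgroup.mem_bot] at this
    rw [← ψ.apply_symm_apply m, this, map_one]
  refine ⟨F, iF, iT, ?_, ⟨ψ.trans (((QuotientGroup.quotientMulEquivOfEq hZ).trans QuotientGroup.quotientBot).symm)⟩⟩
  have hcard : Nat.card G = Fintype.card F * (Fintype.card F ^ 2 - 1) := by
    rw [Nat.card_congr ψ.toEquiv, Small.SL2C.card_SL2]
  have hF := Fintype.one_lt_card (α := F)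
  have h2 : (2 : ℕ) ∣ Fintype.card F := by
    rw [← CharP.cast_eq_zero_iff F 2, Nat.cast_card_eq_zero]
  by_contra hle
  have hF2 : Fintype.card F = 2 := by omega
  rw [hF2] at hcard
  have := Nat.le_of_dvd (by norm_num) (hcard ▸ Subgroup.card_subgroup_dvd_card (S : Subgroup G))
  have h6 : Nat.card (S : Subgroup G) ∣ 2 * (2 ^ 2 - 1) := hcard ▸ Subgroup.card_subgroup_dvd_card (S : Subgroup G)
  obtain ⟨k, hk⟩ := IsPGroup.iff_card.1 S.isPGroup'
  have h8 : Nat.card (S : Subgroup G) = 4 := by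
    rcases k with _ | _ | _ | k
    · rw [pow_zero] at hk; omega
    · rw [pow_one] at hk; omega
    · exact hk.trans (by norm_num)
    · have h3 : 2 ^ 3 ≤ 2 ^ (k + 1 + 1 + 1) := Nat.pow_le_pow_right (by norm_num) (by omega)
      rw [← hk] at h3
      omega
  rw [h8] at h6
  norm_num at h6

theorem exists_two (hna : ∃ a b : G, a * b ≠ b * a) (S : Sylow 2 G)
    (hab : ∀ a ∈ (S : Subgroup G), a * a = 1) : 4 ≤ Nat.card (S : Subgroup G) := by
  classical
  haveI : Fact (Nat.Prime 2) := ⟨Nat.prime_two⟩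
  obtain ⟨k, hk⟩ := IsPGroup.iff_card.1 S.isPGroup'
  have h2 : 2 ∣ Nat.card (S : Subgroup G) :=
    S.dvd_card_of_dvd_card (exists_involution hna)
  rcases k with _ | _ | k
  · rw [hk] at h2; simp at h2
  · exfalso
    have hle : normalizer ((S : Subgroup G) : Set G) ≤ Subgroup.centralizer ((S : Subgroup G) : Set G) := by
      intro n hn
      rw [mem_centralizer_iff]
      intro s hs
      by_cases hs1 : s = 1
      · simp [hs1]
      have hS : (S : Subgroup G) = zpowers s := (Subgroup.eq_of_le_of_card_ge (zpowers_le.2 hs) (by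
        rw [Nat.card_zpowers, (show Inv s from ⟨hab s hs, hs1⟩).orderOf, hk]; rfl)).symm
      have hn' : n * s * n⁻¹ ∈ zpowers s := hS ▸ norm_conj hn hs
      exact ((nz_inv_iff ⟨hab s hs, hs1⟩ n).1 hn').eq.symm
    obtain ⟨P, N, hN, hc⟩ := Fusion.hnpc_of_normalizer_le_centralizer S hle
    rcases hN.eq_bot_or_eq_top with e | e
    · rw [e] at hc
      have htop : (P : Subgroup G) = ⊤ := Subgroup.isComplement'_bot_left.1 hc
      exact sylow_not_normal hna P (htop.symm ▸ inferInstance)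
    · rw [e] at hc
      have hbot : (P : Subgroup G) = ⊥ := Subgroup.isComplement'_top_left.1 hc
      exact sylow_not_normal hna P (hbot.symm ▸ inferInstance)
  · rw [hk, pow_succ, pow_succ]; have := Nat.two_pow_pos k; omega

/-- The simple case. -/
theorem simple_case (hna : ∃ a b : G, a * b ≠ b * a) (h : HCN G) :
    ∃ (F : Type) (_ : Field F) (_ : Fintype F), 3 < Fintype.card F ∧
      Nonempty (G ≃* Matrix.ProjectiveSpecialLinearGroup (Fin 2) F) := by
  classical
  haveI : Fact (Nat.Prime 2) := ⟨Nat.prime_two⟩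
  haveI := Fintype.ofFinite G
  obtain ⟨S⟩ := (inferInstance : Nonempty (Sylow 2 G))
  by_cases hex : ∃ a ∈ (S : Subgroup G), a * a ≠ 1
  · obtain ⟨a, ha, ha4⟩ := hex
    obtain ⟨B, z, c, t, hBc, hBS, hz, hcB, hc, hzc, htS, htB, hout, hidx⟩ := sylow_shape hna h S ha ha4
    obtain ⟨g, hg⟩ := (Subgroup.isCyclic_iff_exists_zpowers_eq_top B).1 hBc
    have hzB : z ∈ B := hc ▸ mul_mem hcB hcB
    have huniq : ∀ w ∈ B, Inv w → w = z := fun w hw hwi => inv_unique (hg ▸ hw) (hg ▸ hzB) hwi hz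
    have hout' : ∀ s ∈ (S : Subgroup G), s ∉ B → ¬ Commute s c := fun s hs hsB hsc => by
      have := (hout s hs hsB).2 c hcB
      rw [conj_iff_commute.2 hsc] at this
      exact hz.2 (by rw [← hc]; exact eq_inv_iff_mul_eq_one.1 this)
    refine psl_of_dihedral hna h S B hBS hBc hz hzB hzc htS htB hout hidx (fun y hy hy1 s hs => ?_) ?_
    · constructor
      · intro hsy
        by_contra hsB
        have hsI : Inv s := ⟨(hout s hs hsB).1, fun e => hsB (e ▸ one_mem B)⟩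
        exact hout' s hs hsB
          (((cent_eq' h hz hsI hy hy1 hsy.symm c).2 (root_commute hc)).symm)
      · intro hsB
        by_cases hs2 : s * s = 1
        · by_cases hs1 : s = 1
          · rw [hs1]; exact Commute.one_left y
          · rw [huniq s hsB ⟨hs2, hs1⟩]; exact ((mem_U h hz).1 hy).1.symm
        obtain ⟨r, hr, hri⟩ := exists_root S.isPGroup' hs hs2
        have hrz : r * r = z := huniq _ (mul_mem ((zpowers_le.2 hsB) hr) ((zpowers_le.2 hsB) hr)) hri
        have h1 : y * s * y⁻¹ ∈ zpowers s :=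
          (nz_root h hz (hrz ▸ mul_mem hr hr) y).2 ((mem_U h hz).1 hy).1
        have h2 : s * y * s⁻¹ ∈ zpowers y := (U_nz h hz hy hy1).2 (hzc s hs)
        have h3 : y * s * y⁻¹ * s⁻¹ ∈ zpowers y := by
          rw [show y * s * y⁻¹ * s⁻¹ = y * (s * y * s⁻¹)⁻¹ by group]
          exact mul_mem (mem_zpowers y) (inv_mem h2)
        have h4 := mem_twoGroup_U h S.isPGroup' hz
          ((zpowers_le.2 hs) (mul_mem h1 (inv_mem (mem_zpowers s)))) ((zpowers_le.2 hy) h3)
        exact (conj_iff_commute.1 (mul_inv_eq_one.1 h4)).symm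
    · intro w hwI hwS hwc _
      by_cases hwB : w ∈ B
      · exact huniq w hwB hwI
      · exact absurd (((hwc c).2 (root_commute hc)).symm) (hout' w hwS hwB)
  push_neg at hex
  have hab : ∀ a ∈ (S : Subgroup G), ∀ b ∈ (S : Subgroup G), Commute a b := fun a ha b hb => by
    have h1 := hex _ (mul_mem ha hb)
    rw [Commute, SemiconjBy]
    calc a * b = a * b * ((a * b * (a * b))⁻¹) := by rw [h1]; group
      _ = b⁻¹ * a⁻¹ := by group
      _ = b * a := by rw [inv_eq_of_mul_eq_one_right (hex a ha), inv_eq_of_mul_eq_one_right (hex b hb)]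
  have hS4 := exists_two hna S hex
  have hnc : ¬ IsCyclic ↥(S : Subgroup G) := fun hcyc => by
    obtain ⟨g, hg⟩ := (Subgroup.isCyclic_iff_exists_zpowers_eq_top (S : Subgroup G)).1 hcyc
    have hgS : g ∈ (S : Subgroup G) := hg ▸ mem_zpowers g
    have h2 : orderOf g ≤ 2 := Nat.le_of_dvd (by norm_num) (orderOf_dvd_of_pow_eq_one (by
      rw [pow_two]; exact hex g hgS))
    rw [← hg, Nat.card_zpowers] at hS4
    omega
  by_cases hall : ∀ e ∈ (S : Subgroup G), Inv e → ∀ y ∈ U e, ∀ s ∈ (S : Subgroup G), Commute y s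
  · exact psl_of_iac hna S hS4 hnc (iac_of h S hab hall)
  push_neg at hall
  obtain ⟨t, htS, ht, y₀, hy₀, s₀, hs₀, hys₀⟩ := hall
  obtain ⟨K, hK⟩ : ∃ K, K = ((S : Subgroup G) ⊓ Subgroup.centralizer (U t : Set G) : Subgroup G) := ⟨_, rfl⟩
  have hmK : ∀ s, s ∈ K ↔ s ∈ (S : Subgroup G) ∧ ∀ y ∈ U t, Commute y s := fun s => by
    rw [hK, mem_inf, mem_centralizer_iff]; exact Iff.rfl
  have hy₀1 : y₀ ≠ 1 := fun e => hys₀ (e ▸ Commute.one_left s₀)
  have hs₀K : s₀ ∉ K := fun e => hys₀ (((hmK _).1 e).2 y₀ hy₀)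
  have hdich : ∀ s ∈ (S : Subgroup G), ∀ y ∈ U t, y ≠ 1 → Commute s y → s ∈ K := by
    intro s hs y hy hy1 hsy
    refine (hmK s).2 ⟨hs, fun w hw => ?_⟩
    by_cases hs1 : s = 1
    · rw [hs1]; exact Commute.one_right w
    exact (cent_eq' h ht ⟨hex s hs, hs1⟩ hy hy1 hsy.symm w).2 ((mem_U h ht).1 hw).1
  have hinv : ∀ s ∈ (S : Subgroup G), s ∉ K → ∀ y ∈ U t, s * y * s⁻¹ = y⁻¹ := fun s hs hsK =>
    Char.BSW.fpf_inverts (hex s hs) (mem_norm fun w hw => U_conj h ht (hab s hs t htS) hw)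
      fun y hy e => by_contra fun hy1 => hsK (hdich s hs y hy hy1 (conj_iff_commute.1 e))
  have hidx : ∀ p ∈ (S : Subgroup G), ∀ q ∈ (S : Subgroup G), p ∉ K → q ∉ K → p * q ∈ K := by
    intro p hp q hq hpK hqK
    refine hdich _ (mul_mem hp hq) y₀ hy₀ hy₀1 (conj_iff_commute.1 ?_)
    rw [show p * q * y₀ * (p * q)⁻¹ = p * (q * y₀ * q⁻¹) * p⁻¹ by group, hinv q hq hqK y₀ hy₀,
      show p * y₀⁻¹ * p⁻¹ = (p * y₀ * p⁻¹)⁻¹ by group, hinv p hp hpK y₀ hy₀, inv_inv]
  have htK : t ∈ K := hdich t htS y₀ hy₀ hy₀1 ((mem_U h ht).1 hy₀).1.symm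
  have hKS : K ≤ (S : Subgroup G) := fun s hs => ((hmK s).1 hs).1
  by_cases hK2 : ∀ s ∈ K, s = 1 ∨ s = t
  · have hKz : K = zpowers t := le_antisymm (fun s hs => by
      rcases hK2 s hs with e | e
      · rw [e]; exact one_mem _
      · rw [e]; exact mem_zpowers t) (zpowers_le.2 htK)
    refine psl_of_dihedral hna h S K hKS (hKz ▸ inferInstance) ht htK (fun s hs => hab s hs t htS) hs₀ hs₀K
      (fun s hs hsK => ⟨hex s hs, fun b hb => by
        rw [conj_iff_commute.2 (hab s hs b (hKS hb)), inv_eq_of_mul_eq_one_right (hex b (hKS hb))]⟩)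
      hidx (fun y hy hy1 s hs => ⟨hdich s hs y hy hy1, fun e => (((hmK s).1 e).2 y hy).symm⟩) ?_
    intro w hwI hwS hwc _
    have hwK : w ∈ K := hdich w hwS y₀ hy₀ hy₀1 ((hwc y₀).2 ((mem_U h ht).1 hy₀).1).symm
    exact (hK2 w hwK).resolve_left hwI.2
  exfalso
  push_neg at hK2
  obtain ⟨k₀, hk₀K, hk₀1, hk₀t⟩ := hK2
  obtain ⟨g, hgN, hgC⟩ : ∃ g, g ∈ normalizer ((S : Subgroup G) : Set G) ∧
      ¬ g ∈ Subgroup.centralizer ((S : Subgroup G) : Set G) := by
    by_contra hc'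
    push_neg at hc'
    obtain ⟨P, N, hN, hc⟩ := Fusion.hnpc_of_normalizer_le_centralizer S hc'
    rcases hN.eq_bot_or_eq_top with e | e
    · rw [e] at hc
      have htop : (P : Subgroup G) = ⊤ := Subgroup.isComplement'_bot_left.1 hc
      exact sylow_not_normal hna P (htop.symm ▸ inferInstance)
    · rw [e] at hc
      have hbot : (P : Subgroup G) = ⊥ := Subgroup.isComplement'_top_left.1 hc
      exact sylow_not_normal hna P (hbot.symm ▸ inferInstance)
  obtain ⟨n, hnN, hnC, hnodd⟩ : ∃ n, n ∈ normalizer ((S : Subgroup G) : Set G) ∧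
      ¬ n ∈ Subgroup.centralizer ((S : Subgroup G) : Set G) ∧ Odd (orderOf n) := by
    obtain ⟨k, m, hm, hkm⟩ := Nat.exists_eq_two_pow_mul_odd (orderOf_pos g).ne'
    refine ⟨g ^ 2 ^ k, pow_mem hgN _, fun hgk => hgC ?_, ?_⟩
    · have h2 : g ^ m ∈ (S : Subgroup G) := by
        have hle : zpowers (g ^ m) ≤ normalizer ((S : Subgroup G) : Set G) := zpowers_le.2 (pow_mem hgN m)
        have hp : IsPGroup 2 (zpowers (g ^ m) ⊔ (S : Subgroup G) : Subgroup G) :=
          IsPGroup.to_sup_of_normal_right' (IsPGroup.of_card (n := k) (by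
            rw [Nat.card_zpowers, orderOf_pow_of_dvd (by obtain ⟨j, rfl⟩ := hm; omega)
              (hkm ▸ dvd_mul_left m _), hkm, Nat.mul_div_cancel _ (by obtain ⟨j, rfl⟩ := hm; omega)]))
            S.isPGroup' hle
        rw [← S.is_maximal' hp le_sup_right]
        exact le_sup_left (α := Subgroup G) (mem_zpowers _)
      have h3 : g ^ m ∈ Subgroup.centralizer ((S : Subgroup G) : Set G) :=
        mem_centralizer_iff.2 fun s hs => (hab s hs _ h2).eq
      have hcop : IsCoprime ((2 ^ k : ℕ) : ℤ) (m : ℤ) :=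
        (Nat.Coprime.pow_left k (Nat.coprime_two_left.2 hm)).isCoprime
      obtain ⟨u, v, huv⟩ := hcop
      have : g = (g ^ 2 ^ k) ^ u * (g ^ m) ^ v := by
        rw [← zpow_natCast, ← zpow_natCast, ← zpow_mul, ← zpow_mul, ← zpow_add, mul_comm _ u, mul_comm _ v,
          huv, zpow_one]
      rw [this]
      exact mul_mem (zpow_mem hgk u) (zpow_mem h3 v)
    · rw [orderOf_pow_of_dvd (by positivity) (hkm ▸ dvd_mul_right _ _), hkm,
        Nat.mul_div_cancel_left _ (by positivity)]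
      exact hm
  have hfpf : ∀ v ∈ (S : Subgroup G), v ≠ 1 → ¬ Commute n v := by
    intro v hv hv1 hnv
    have hvI : Inv v := ⟨hex v hv, hv1⟩
    have hnU : n ∈ U v := (mem_U h hvI).2 ⟨hnv, hnodd⟩
    refine hnC (mem_centralizer_iff.2 fun s hs => ?_)
    by_cases hn1 : n = 1
    · simp [hn1]
    have h2 : s * n * s⁻¹ ∈ zpowers n := (U_nz h hvI hnU hn1).2 (hab s hs v hv)
    have h3 : s * n * s⁻¹ * n⁻¹ ∈ zpowers n := mul_mem h2 (inv_mem (mem_zpowers n))
    have h4 : s * n * s⁻¹ * n⁻¹ ∈ (S : Subgroup G) := by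
      rw [show s * n * s⁻¹ * n⁻¹ = s * (n * s⁻¹ * n⁻¹) by group]
      exact mul_mem hs (norm_conj hnN (inv_mem hs))
    exact (conj_iff_commute.1 (mul_inv_eq_one.1
      (mem_twoGroup_U h S.isPGroup' hvI h4 ((zpowers_le.2 hnU) h3)))).eq
  have hnS : ∀ s ∈ (S : Subgroup G), n * s * n⁻¹ ∈ (S : Subgroup G) := fun s hs => norm_conj hnN hs
  have hmove : ∃ p ∈ K, n⁻¹ * p * n ∉ K := by
    by_contra hc'
    push_neg at hc'
    have hnK : ∀ p ∈ (S : Subgroup G), (n⁻¹ * p * n ∈ K ↔ p ∈ K) := by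
      have hmap : K.map (MulAut.conj n⁻¹).toMonoidHom = K := by
        refine Subgroup.eq_of_le_of_card_ge ?_ (by
          rw [Subgroup.card_map_of_injective (MulAut.conj n⁻¹).injective])
        rintro _ ⟨q, hq, rfl⟩
        simpa using hc' q hq
      intro p _
      refine ⟨fun hp => ?_, hc' p⟩
      rw [← hmap, Subgroup.mem_map_equiv] at hp
      simpa [mul_assoc] using hp
    have key : ∀ i : ℕ, (n ^ i)⁻¹ * (n * s₀) ^ i ∈ (S : Subgroup G) ∧
        ((n ^ i)⁻¹ * (n * s₀) ^ i ∈ K ↔ Even i) := by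
      intro i
      induction i with
      | zero => simp
      | succ i ih =>
        obtain ⟨w, hw⟩ : ∃ w, w = (n ^ i)⁻¹ * (n * s₀) ^ i := ⟨_, rfl⟩
        rw [← hw] at ih
        have e : (n ^ (i + 1))⁻¹ * (n * s₀) ^ (i + 1) = (n⁻¹ * w * n) * s₀ := by
          rw [hw, pow_succ, pow_succ]; group
        have hwn : n⁻¹ * w * n ∈ (S : Subgroup G) := by
          have := norm_conj (inv_mem hnN) ih.1
          rwa [inv_inv] at this
        rw [e, Nat.even_add_one]
        refine ⟨mul_mem hwn hs₀, fun h1 h2 => hs₀K ?_, fun h1 => hidx _ hwn s₀ hs₀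
          (fun h2 => h1 (ih.2.1 ((hnK w ih.1).1 h2))) hs₀K⟩
        have := mul_mem (inv_mem ((hnK w ih.1).2 (ih.2.2 h2))) h1
        rwa [inv_mul_cancel_left] at this
    obtain ⟨hvS, hvK⟩ := key (orderOf n)
    rw [pow_orderOf_eq_one, inv_one, one_mul] at hvS hvK
    have hv1 : (n * s₀) ^ orderOf n ≠ 1 := fun e => by
      rw [e] at hvK
      exact (Nat.not_even_iff_odd.2 hnodd) (hvK.1 (one_mem K))
    refine hfpf _ hvS hv1 ?_
    have h1 : Commute (n * s₀) ((n * s₀) ^ orderOf n) := Commute.self_pow _ _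
    have h2 := h1.mul_left (hab s₀ hs₀ _ hvS).inv_left
    rwa [mul_inv_cancel_right] at h2
  obtain ⟨p, hpK, hpn⟩ := hmove
  obtain ⟨t', ht'⟩ : ∃ t', t' = n * t * n⁻¹ := ⟨_, rfl⟩
  have ht'I : Inv t' := ht' ▸ ht.conj n
  -- an element of `K ∩ nKn⁻¹`
  obtain ⟨w, hwK, hw1, hwn⟩ : ∃ w, w ∈ K ∧ w ≠ 1 ∧ n⁻¹ * w * n ∈ K := by
    by_cases h1 : n⁻¹ * t * n ∈ K
    · exact ⟨t, htK, ht.2, h1⟩
    by_cases h2 : n⁻¹ * k₀ * n ∈ K
    · exact ⟨k₀, hk₀K, hk₀1, h2⟩
    refine ⟨t * k₀, mul_mem htK hk₀K, fun e => hk₀t ?_, ?_⟩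
    · rw [eq_comm, ← ht.inv]; exact inv_eq_of_mul_eq_one_right e
    · rw [show n⁻¹ * (t * k₀) * n = (n⁻¹ * t * n) * (n⁻¹ * k₀ * n) by group]
      have hin : ∀ s ∈ (S : Subgroup G), n⁻¹ * s * n ∈ (S : Subgroup G) := fun s hs => by
        have := norm_conj (inv_mem hnN) hs
        rwa [inv_inv] at this
      exact hidx _ (hin t htS) _ (hin k₀ (hKS hk₀K)) h1 h2
  have hwI : Inv w := ⟨hex w (hKS hwK), hw1⟩
  have hce1 : ∀ g, Commute g w ↔ Commute g t := cent_eq' h ht hwI hy₀ hy₀1 (((hmK w).1 hwK).2 y₀ hy₀)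
  have hy' : n * y₀ * n⁻¹ ∈ U t' := ht' ▸ (conj_mem_U h ht n).2 hy₀
  have hcw : Commute (n * y₀ * n⁻¹) w := by
    have h1 := (((hmK _).1 hwn).2 y₀ hy₀).eq
    rw [Commute, SemiconjBy]
    calc n * y₀ * n⁻¹ * w = n * (y₀ * (n⁻¹ * w * n)) * n⁻¹ := by group
      _ = n * ((n⁻¹ * w * n) * y₀) * n⁻¹ := by rw [h1]
      _ = w * (n * y₀ * n⁻¹) := by group
  have hce2 : ∀ g, Commute g w ↔ Commute g t' :=
    cent_eq' h ht'I hwI hy' (fun e => hy₀1 (conj_eq_one_iff.1 e)) hcw
  have hUU : U t' = U t := U_eq h ht ht'I fun g => (hce2 g).symm.trans (hce1 g)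
  refine hpn ((hmK _).2 ⟨by
    have := norm_conj (inv_mem hnN) (hKS hpK); rwa [inv_inv] at this, fun y hy => ?_⟩)
  have h1 : n * y * n⁻¹ ∈ U t := hUU ▸ ht' ▸ (conj_mem_U h ht n).2 hy
  have h2 := (((hmK p).1 hpK).2 _ h1).eq
  rw [Commute, SemiconjBy]
  calc y * (n⁻¹ * p * n) = n⁻¹ * ((n * y * n⁻¹) * p) * n := by group
    _ = n⁻¹ * (p * (n * y * n⁻¹)) * n := by rw [h2]
    _ = n⁻¹ * p * n * y := by group

end Cfsg.Agent.Classical.CyclicNormalizer
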