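import Cfsg.Agent.Lib.Classical.CyclicNormalizer.Roots
import Cfsg.Agent.Lib.Char.ZStar
import Cfsg.Agent.Lib.Char.IsolatedStep
import Cfsg.Agent.Lib.Fusion.Cores
import Cfsg.Agent.Lib.Fusion.ThompsonTransferCyclic
import Cfsg.Agent.Lib.Classical.InvAb.Final
import Cfsg.Agent.Lib.Solv.UniqueSub

/-!
# Sylow 2-subgroups with elements of order four in simple groups of this kind
-/

set_option autoImplicit false
set_option linter.unusedSectionVars false
set_option linter.style.haveILetI false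

namespace Cfsg.Agent.Classical.CyclicNormalizer

open Subgroup Cfsg

variable {G : Type*} [Group G] [Finite G] [IsSimpleGroup G]

theorem center_eq_bot (hna : ∃ a b : G, a * b ≠ b * a) : Subgroup.center G = ⊥ := by
  obtain ⟨a, b, hab⟩ := hna
  exact (Subgroup.Normal.eq_bot_or_eq_top (H := Subgroup.center G) inferInstance).resolve_right fun e =>
    hab (Subgroup.mem_center_iff.1 (e ▸ mem_top b) a)

theorem commutator_eq_top (hna : ∃ a b : G, a * b ≠ b * a) : commutator G = ⊤ := by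
  obtain ⟨a, b, hab⟩ := hna
  refine (Subgroup.Normal.eq_bot_or_eq_top (H := commutator G) inferInstance).resolve_left fun e => hab ?_
  exact Subgroup.mem_center_iff.1 (((commutator_eq_bot_iff_center_eq_top G).1 e) ▸ mem_top b) a

theorem exists_move (hna : ∃ a b : G, a * b ≠ b * a) {z : G} (hz : Inv z) (P : Sylow 2 G)
    (hzP : z ∈ (P : Subgroup G)) : ∃ g : G, g * z * g⁻¹ ∈ (P : Subgroup G) ∧ g * z * g⁻¹ ≠ z := by
  by_contra hc
  push_neg at hc
  haveI : (Cfsg.oddCore G).Normal := inferInstanceAs (pPrimeCore 2 G).Normal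
  have hO : Cfsg.oddCore G = ⊥ := (Subgroup.Normal.eq_bot_or_eq_top (H := Cfsg.oddCore G) inferInstance).resolve_right
    fun e => by
      have h := Char.card_oddCore_odd G
      rw [e, Nat.card_congr Subgroup.topEquiv.toEquiv] at h
      exact absurd (h.of_dvd_nat (hz.orderOf ▸ orderOf_dvd_natCard z)) (by decide)
  have hc' := Char.zStar_central (Char.oddInvol_of_isolated_sylow hz.orderOf hzP fun g hg => hc g hg) hO
  exact hz.2 (Subgroup.mem_bot.1 (center_eq_bot hna ▸ Subgroup.mem_center_iff.2 fun g => (hc' g).symm))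

theorem exists_conj_sylow {A : Subgroup G} (hA : IsPGroup 2 A) (S : Sylow 2 G) :
    ∃ k : G, ∀ a ∈ A, k * a * k⁻¹ ∈ (S : Subgroup G) := by
  haveI : Fact (Nat.Prime 2) := ⟨Nat.prime_two⟩
  obtain ⟨P, hP⟩ := hA.exists_le_sylow
  obtain ⟨k, hk⟩ := MulAction.exists_smul_eq G P S
  refine ⟨k, fun a ha => ?_⟩
  rw [← hk, Sylow.coe_subgroup_smul, ← MulAut.conj_apply k a]
  exact Subgroup.smul_mem_pointwise_smul a (MulAut.conj k) _ (hP ha)

/-- Abelian Sylow 2-subgroups centralizing all `U e` give abelian involution centralizers. -/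
theorem iac_of (h : HCN G) (S : Sylow 2 G) (hab : ∀ a ∈ (S : Subgroup G), ∀ b ∈ (S : Subgroup G), Commute a b)
    (hallU : ∀ e ∈ (S : Subgroup G), Inv e → ∀ y ∈ U e, ∀ s ∈ (S : Subgroup G), Commute y s) : InvAb.IAC G := by
  haveI : Fact (Nat.Prime 2) := ⟨Nat.prime_two⟩
  intro t p q ht2 ht1 hp hq
  have htI : Inv t := ⟨ht2, ht1⟩
  obtain ⟨k, hk⟩ := exists_conj_sylow (A := zpowers t)
    (IsPGroup.of_card (n := 1) (by rw [Nat.card_zpowers, htI.orderOf, pow_one])) S
  have heI : Inv (k * t * k⁻¹) := htI.conj k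
  have hcf : ∀ r, Commute r t → Commute (k * r * k⁻¹) (k * t * k⁻¹) := fun r hr => by
    rw [Commute, SemiconjBy, show k * r * k⁻¹ * (k * t * k⁻¹) = k * (r * t) * k⁻¹ by group, hr.eq]
    group
  have hSe : ∀ s ∈ (S : Subgroup G), Commute s (k * t * k⁻¹) := fun s hs => hab s hs _ (hk t (mem_zpowers t))
  obtain ⟨u, hu, s, hs, e1⟩ := decomp h heI S hSe (hcf p hp)
  obtain ⟨u', hu', s', hs', e2⟩ := decomp h heI S hSe (hcf q hq)
  have hall := hallU _ (hk t (mem_zpowers t)) heI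
  have h5 : Commute (u * s) (u' * s') :=
    ((U_comm h heI hu hu').mul_right (hall u hu s' hs')).mul_left
      ((hall u' hu' s hs).symm.mul_right (hab s hs s' hs'))
  rw [← e1, ← e2] at h5
  have h6 := congrArg (fun w => k⁻¹ * w * k) h5.eq
  calc p * q = k⁻¹ * (k * p * k⁻¹ * (k * q * k⁻¹)) * k := by group
    _ = k⁻¹ * (k * q * k⁻¹ * (k * p * k⁻¹)) * k := h6
    _ = q * p := by group

/-- A Sylow 2-subgroup cannot be generalized dihedral on a noncyclic group of exponent at least four. -/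
theorem dih_contra (hna : ∃ a b : G, a * b ≠ b * a) (h : HCN G) (S : Sylow 2 G) (B : Subgroup G)
    (hBS : B ≤ (S : Subgroup G))
    (hout : ∀ s ∈ (S : Subgroup G), s ∉ B → s * s = 1 ∧ ∀ b ∈ B, s * b * s⁻¹ = b⁻¹)
    {s : G} (hs : s ∈ (S : Subgroup G)) (hsB : s ∉ B)
    (hidx : ∀ x ∈ (S : Subgroup G), ∀ y ∈ (S : Subgroup G), x ∉ B → y ∉ B → x * y ∈ B)
    {z v a : G} (hz : Inv z) (hv : Inv v) (hzv : z ≠ v) (hzB : z ∈ B) (hvB : v ∈ B) (haB : a ∈ B)
    (ha : a * a ≠ 1) : False := by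
  classical
  haveI : Fact (Nat.Prime 2) := ⟨Nat.prime_two⟩
  have hcomm : ∀ b ∈ B, ∀ b' ∈ B, Commute b b' := fun b hb b' hb' => by
    have h1 := (hout s hs hsB).2 (b * b') (mul_mem hb hb')
    rw [show s * (b * b') * s⁻¹ = (s * b * s⁻¹) * (s * b' * s⁻¹) by group, (hout s hs hsB).2 b hb,
      (hout s hs hsB).2 b' hb', ← mul_inv_rev, inv_inj] at h1
    exact h1.symm
  have hinvol : ∀ w ∈ B, w * w = 1 → ∀ x ∈ (S : Subgroup G), Commute x w := fun w hw hw2 x hx => by
    by_cases hxB : x ∈ B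
    · exact hcomm x hxB w hw
    · exact conj_iff_commute.1 (((hout x hx hxB).2 w hw).trans (inv_eq_of_mul_eq_one_right hw2))
  obtain ⟨T, hT⟩ : ∃ T, T = B.subgroupOf (S : Subgroup G) := ⟨_, rfl⟩
  have hTi : T.index = 2 := by
    rw [Subgroup.index_eq_two_iff]
    refine ⟨⟨s, hs⟩, fun b => ?_⟩
    rw [hT, mem_subgroupOf, mem_subgroupOf, Subgroup.coe_mul]
    by_cases hb : (b : G) ∈ B
    · exact Or.inr ⟨hb, fun hbs => hsB (by have := mul_mem (inv_mem hb) hbs; simpa using this)⟩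
    · exact Or.inl ⟨hidx b b.2 s hs hb hsB, hb⟩
  haveI hTn : (B.subgroupOf (S : Subgroup G)).Normal := hT ▸ Subgroup.normal_of_index_eq_two hTi
  have hcyc : IsCyclic (↥(S : Subgroup G) ⧸ B.subgroupOf (S : Subgroup G)) :=
    isCyclic_of_prime_card (p := 2) (by rw [← index_eq_card, ← hT, hTi])
  have hs2 : Inv s := ⟨(hout s hs hsB).1, fun e => hsB (e ▸ one_mem B)⟩
  obtain ⟨g, hgB, -, -⟩ :=
    Fusion.extremal_transfer_cyclic (commutator_eq_top hna) S B hBS hcyc hs2.orderOf hs hsB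
  have hgc : ∀ x ∈ (S : Subgroup G), Commute (g⁻¹ * x * g) s := fun x hx => by
    have h1 := (hinvol _ hgB (hs2.conj g).1 x hx).eq
    calc g⁻¹ * x * g * s = g⁻¹ * (x * (g * s * g⁻¹)) * g := by group
      _ = g⁻¹ * (g * s * g⁻¹ * x) * g := by rw [h1]
      _ = s * (g⁻¹ * x * g) := by group
  obtain ⟨C, hC⟩ : ∃ C, C = Subgroup.centralizer ({s} : Set G) := ⟨_, rfl⟩
  have hmC : ∀ x, x ∈ C ↔ Commute x s := fun x => by rw [hC, mem_centralizer_singleton_iff]; exact Iff.rfl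
  obtain ⟨F, hF⟩ : ∃ F, F = Subgroup.closure ({z, v, s} : Set G) := ⟨_, rfl⟩
  have hFS : F ≤ (S : Subgroup G) := by
    rw [hF, closure_le]
    rintro w (rfl | rfl | rfl)
    exacts [hBS hzB, hBS hvB, hs]
  have hzS : Commute z s := (hinvol z hzB hz.1 s hs).symm
  have hvS : Commute v s := (hinvol v hvB hv.1 s hs).symm
  have hFC : F ≤ C := by
    rw [hF, closure_le]
    rintro w (rfl | rfl | rfl)
    exacts [(hmC _).2 hzS, (hmC _).2 hvS, (hmC _).2 (Commute.refl _)]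
  have hgle : ((g⁻¹ • S : Sylow 2 G) : Subgroup G) ≤ C := by
    intro y hy
    rw [Sylow.coe_subgroup_smul, Subgroup.mem_pointwise_smul_iff_inv_smul_mem] at hy
    rw [hmC]
    have h1 := hgc _ hy
    rwa [← map_inv, inv_inv, MulAut.smul_def, MulAut.conj_apply,
      show g⁻¹ * (g * y * g⁻¹) * g = y by group] at h1
  obtain ⟨Q, hQ⟩ := ((S.isPGroup'.to_le hFS).comap_subtype (K := C)).exists_le_sylow
  obtain ⟨k, hk⟩ := MulAction.exists_smul_eq C ((g⁻¹ • S).subtype hgle) Q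
  have hFk : ∀ f ∈ F, (k * g⁻¹ : G)⁻¹ * f * (k * g⁻¹) ∈ (S : Subgroup G) := fun f hf => by
    have : (⟨f, hFC hf⟩ : C) ∈ (Q : Subgroup C) := hQ (mem_subgroupOf.2 hf)
    rw [← hk, Sylow.coe_subgroup_smul, Subgroup.mem_pointwise_smul_iff_inv_smul_mem, ← map_inv,
      MulAut.smul_def, MulAut.conj_apply, Sylow.coe_subtype, mem_subgroupOf, inv_inv] at this
    simp only [Subgroup.coe_mul, InvMemClass.coe_inv] at this
    rw [Sylow.coe_subgroup_smul, Subgroup.mem_pointwise_smul_iff_inv_smul_mem, ← map_inv, inv_inv,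
      MulAut.smul_def, MulAut.conj_apply] at this
    rwa [show (k * g⁻¹ : G)⁻¹ * f * (k * g⁻¹) = g * ((k : G)⁻¹ * f * k) * g⁻¹ by group]
  have hcs : ∀ x ∈ (S : Subgroup G), Commute ((k * g⁻¹ : G) * x * (k * g⁻¹ : G)⁻¹) s := fun x hx => by
    rw [show (k * g⁻¹ : G) * x * (k * g⁻¹ : G)⁻¹ = k * (g⁻¹ * x * g) * (k : G)⁻¹ by group]
    exact (((hmC _).1 k.2).mul_left (hgc x hx)).mul_left ((hmC _).1 k.2).inv_left
  obtain ⟨m, hm⟩ : ∃ m : G, m = k * g⁻¹ := ⟨_, rfl⟩
  rw [← hm] at hFk hcs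
  have hzF : z ∈ F := hF ▸ subset_closure (Or.inl rfl)
  have hvF : v ∈ F := hF ▸ subset_closure (Or.inr (Or.inl rfl))
  have hzvI : Inv (z * v) := hz.mul hv (hcomm z hzB v hvB) hzv
  obtain ⟨e, he, heB, hem⟩ : ∃ e, Inv e ∧ e ∈ B ∧ m⁻¹ * e * m ∈ B := by
    by_cases h1 : m⁻¹ * z * m ∈ B
    · exact ⟨z, hz, hzB, h1⟩
    by_cases h2 : m⁻¹ * v * m ∈ B
    · exact ⟨v, hv, hvB, h2⟩
    refine ⟨z * v, hzvI, mul_mem hzB hvB, ?_⟩
    rw [show m⁻¹ * (z * v) * m = (m⁻¹ * z * m) * (m⁻¹ * v * m) by group]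
    exact hidx _ (hFk z hzF) _ (hFk v hvF) h1 h2
  have hm2 : m⁻¹ * e * m * (m⁻¹ * e * m) = 1 := by
    rw [show m⁻¹ * e * m * (m⁻¹ * e * m) = m⁻¹ * (e * e) * m by group, he.1]; group
  have hPe : ∀ y ∈ ((m • S : Sylow 2 G) : Subgroup G), Commute y e ∧ Commute y s := by
    intro y hy
    rw [Sylow.coe_subgroup_smul, Subgroup.mem_pointwise_smul_iff_inv_smul_mem, ← map_inv, MulAut.smul_def,
      MulAut.conj_apply, inv_inv] at hy
    refine ⟨?_, ?_⟩
    · have h1 := (hinvol _ hem hm2 _ hy).eq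
      calc y * e = m * ((m⁻¹ * y * m) * (m⁻¹ * e * m)) * m⁻¹ := by group
        _ = m * ((m⁻¹ * e * m) * (m⁻¹ * y * m)) * m⁻¹ := by rw [h1]
        _ = e * y := by group
    · have h1 := hcs _ hy
      rwa [show m * (m⁻¹ * y * m) * m⁻¹ = y by group] at h1
  have hae : Commute a e := hinvol e heB he.1 a (hBS haB)
  have hse : Commute s e := hinvol e heB he.1 s hs
  obtain ⟨u, hu, p, hp, hap⟩ := decomp h he (m • S) (fun y hy => (hPe y hy).1) hae
  have hmem : a * a ∈ U e := by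
    have h1 : a * a = a * s * a⁻¹ * s⁻¹ := by
      rw [show a * s * a⁻¹ * s⁻¹ = a * (s * a * s⁻¹)⁻¹ by group, (hout s hs hsB).2 a haB, inv_inv]
    rw [h1, hap, show u * p * s * (u * p)⁻¹ * s⁻¹ = u * (p * s * p⁻¹) * u⁻¹ * s⁻¹ by group,
      conj_iff_commute.2 (hPe p hp).2, show u * s * u⁻¹ * s⁻¹ = u * (s * u⁻¹ * s⁻¹) by group]
    exact mul_mem hu (U_conj h he hse (inv_mem hu))
  exact ha (mem_twoGroup_U h S.isPGroup' he (mul_mem (hBS haB) (hBS haB)) hmem)

section rooted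

variable {S : Sylow 2 G} {z c v x : G}

/-- The abelian possibility with two rooted involutions. -/
theorem abelian_contra (hna : ∃ a b : G, a * b ≠ b * a) (h : HCN G) (D : Two (S : Subgroup G) z c v x)
    (hcc : ∀ s ∈ (S : Subgroup G), Commute s c) : False := by
  classical
  haveI : Fact (Nat.Prime 2) := ⟨Nat.prime_two⟩
  have hroot : ∀ a ∈ (S : Subgroup G), Inv (a * a) → ∀ s ∈ (S : Subgroup G), Commute s a :=
    fun a ha hai s hs => D.comm_roots hs (hcc s hs) ha hai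
  have hcen : ∀ b ∈ (S : Subgroup G), b * b = 1 → ∀ s ∈ (S : Subgroup G), Commute s b := by
    intro b hb hb2 s hs
    have hsq : b * c * (b * c) = z := by
      rw [show b * c * (b * c) = b * (c * b) * c by group, ← (hcc b hb).eq,
        show b * (b * c) * c = b * b * (c * c) by group, hb2, one_mul, D.cc]
    have := (hroot _ (mul_mem hb D.cS) (hsq.symm ▸ D.zI) s hs).mul_right (hcc s hs).inv_right
    rwa [mul_inv_cancel_right] at this
  have hmemC : ∀ w ∈ (S : Subgroup G), (∀ s ∈ (S : Subgroup G), Commute s w) →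
      w ∈ Subgroup.centralizer ((S : Subgroup G) : Set G) := fun w _ hw =>
    mem_centralizer_iff.2 fun s hs => (hw s hs).eq
  have hfus : ∀ e ∈ (S : Subgroup G), Inv e → ∃ n : G,
      (∀ y ∈ (S : Subgroup G), n * y * n⁻¹ ∈ (S : Subgroup G)) ∧ n * e * n⁻¹ ≠ e := by
    intro e he hei
    obtain ⟨g, hg, hne⟩ := exists_move hna hei S he
    obtain ⟨n, hn, hne'⟩ := Sylow.conj_eq_normalizer_conj_of_mem_centralizer S e g⁻¹
      (hmemC e he (hcen e he hei.1)) (by rw [inv_inv]; exact hmemC _ hg (hcen _ hg (hei.conj g).1))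
    refine ⟨n⁻¹, fun y hy => norm_conj (inv_mem hn) hy, ?_⟩
    rw [inv_inv] at hne' ⊢
    rwa [← hne']
  have dist : ∀ a ∈ (S : Subgroup G), ∀ b ∈ (S : Subgroup G), ∀ e f, Inv e → Inv f → e ≠ f →
      e ∈ zpowers a → f ∈ zpowers b → Commute a b := by
    intro a ha b hb e f he hf hne hea hfb
    have hfS : f ∈ (S : Subgroup G) := (zpowers_le.2 hb) hfb
    have heS : e ∈ (S : Subgroup G) := (zpowers_le.2 ha) hea
    have h1 : a * b * a⁻¹ ∈ zpowers b := (nz_root h hf hfb a).2 (hcen f hfS hf.1 a ha)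
    have h2 : b * a * b⁻¹ ∈ zpowers a := (nz_root h he hea b).2 (hcen e heS he.1 b hb)
    have h3 : a * b * a⁻¹ * b⁻¹ = 1 :=
      inter_trivial S.isPGroup' ha hea hfb he hf hne
        (by rw [show a * b * a⁻¹ * b⁻¹ = a * (b * a * b⁻¹)⁻¹ by group]; exact mul_mem (mem_zpowers a) (inv_mem h2))
        (mul_mem h1 (inv_mem (mem_zpowers b)))
    exact conj_iff_commute.1 (mul_inv_eq_one.1 h3)
  have hbig : ∀ a ∈ (S : Subgroup G), ∀ b ∈ (S : Subgroup G), a * a ≠ 1 → b * b ≠ 1 →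
      orderOf b ≤ orderOf a → Commute a b := by
    intro a ha b hb ha2 hb2 hle
    obtain ⟨ra, hra, hrai⟩ := exists_root S.isPGroup' ha ha2
    obtain ⟨rb, hrb, hrbi⟩ := exists_root S.isPGroup' hb hb2
    obtain ⟨e, he⟩ : ∃ e, e = ra * ra := ⟨_, rfl⟩
    rw [← he] at hrai
    have hea : e ∈ zpowers a := he ▸ mul_mem hra hra
    have hfb : rb * rb ∈ zpowers b := mul_mem hrb hrb
    by_cases hne : e = rb * rb
    swap
    · exact dist a ha b hb e _ hrai hrbi hne hea hfb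
    rw [← hne] at hfb
    have heS : e ∈ (S : Subgroup G) := (zpowers_le.2 ha) hea
    obtain ⟨n, hn, hnf⟩ := hfus e heS hrai
    obtain ⟨d, hd⟩ : ∃ d, d = n * a * n⁻¹ := ⟨_, rfl⟩
    obtain ⟨f, hf⟩ : ∃ f, f = n * e * n⁻¹ := ⟨_, rfl⟩
    rw [← hf] at hnf
    have hfI : Inv f := hf ▸ hrai.conj n
    have hdS : d ∈ (S : Subgroup G) := hd ▸ hn a ha
    have hfd : f ∈ zpowers d := by
      obtain ⟨i, hi⟩ := mem_zpowers_iff.1 hea
      exact mem_zpowers_iff.2 ⟨i, by rw [hf, hd, conj_zpow, hi]⟩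
    have hbd : Commute b d := dist b hb d hdS e f hrai hfI (Ne.symm hnf) hfb hfd
    have had : Commute a d := dist a ha d hdS e f hrai hfI (Ne.symm hnf) hea hfd
    have hod : orderOf d = orderOf a := by
      rw [hd, ← MulAut.conj_apply, MulEquiv.orderOf_eq]
    obtain ⟨q, hq⟩ : 2 ∣ orderOf a := hrai.orderOf ▸ orderOf_dvd_of_mem_zpowers hea
    obtain ⟨i, hi⟩ := IsPGroup.iff_orderOf.1 S.isPGroup' ⟨a, ha⟩
    obtain ⟨j, hj⟩ := IsPGroup.iff_orderOf.1 S.isPGroup' ⟨b, hb⟩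
    rw [← Subgroup.orderOf_coe] at hi hj
    change orderOf a = _ at hi
    change orderOf b = _ at hj
    have hba : orderOf b ∣ orderOf a := by
      rw [hi, hj] at hle ⊢
      exact pow_dvd_pow 2 ((Nat.pow_le_pow_iff_right (by norm_num)).1 hle)
    have hpos : 0 < q := by have := orderOf_pos a; omega
    have hdq : d ^ q = f := by
      refine inv_unique (pow_mem (mem_zpowers d) q) hfd ⟨?_, ?_⟩ hfI
      · rw [← pow_add, ← two_mul, ← hq, ← hod, pow_orderOf_eq_one]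
      · exact pow_ne_one_of_lt_orderOf (by omega) (by omega)
    have hbq2 : b ^ q * b ^ q = 1 := by
      rw [← pow_add, ← two_mul, ← hq]; exact orderOf_dvd_iff_pow_eq_one.1 hba
    have hef : Commute e f := hcen f (hf ▸ hn e heS) hfI.1 e heS
    obtain ⟨w, hwI, hwne, hwbd⟩ : ∃ w, Inv w ∧ w ≠ e ∧ w ∈ zpowers (b * d) := by
      refine ⟨b ^ q * f, ?_, ?_, ?_⟩
      pick_goal 3
      · rw [← hdq, ← hbd.mul_pow]; exact pow_mem (mem_zpowers _) q
      · by_cases hb1 : b ^ q = 1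
        · rw [hb1, one_mul]; exact hfI
        · rw [inv_unique (pow_mem (mem_zpowers b) q) hfb ⟨hbq2, hb1⟩ hrai]
          exact hrai.mul hfI hef (Ne.symm hnf)
      · by_cases hb1 : b ^ q = 1
        · rw [hb1, one_mul]; exact hnf
        · rw [inv_unique (pow_mem (mem_zpowers b) q) hfb ⟨hbq2, hb1⟩ hrai]
          exact fun h' => hfI.2 (mul_eq_left.1 h')
    have h5 := dist a ha (b * d) (mul_mem hb hdS) e w hrai hwI (Ne.symm hwne) hea hwbd
    have := h5.mul_right had.inv_right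
    rwa [mul_inv_cancel_right] at this
  have hab : ∀ a ∈ (S : Subgroup G), ∀ b ∈ (S : Subgroup G), Commute a b := by
    intro a ha b hb
    by_cases ha2 : a * a = 1
    · exact (hcen a ha ha2 b hb).symm
    by_cases hb2 : b * b = 1
    · exact hcen b hb hb2 a ha
    rcases le_total (orderOf b) (orderOf a) with hle | hle
    · exact hbig a ha b hb ha2 hb2 hle
    · exact (hbig b hb a ha hb2 ha2 hle).symm
  have hrU : ∀ a ∈ (S : Subgroup G), Inv (a * a) → ∀ y ∈ U (a * a), ∀ w ∈ (S : Subgroup G), w * w = 1 →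
      Commute y w := by
    intro a ha hai y hy w hw hw2
    have hsq : a * w * (a * w) = a * a := by
      rw [show a * w * (a * w) = a * (w * a) * w by group, (hab w hw a ha).eq,
        show a * (a * w) * w = a * a * (w * w) by group, hw2, mul_one]
    have h1 : Commute y a := root_U h hai rfl hy
    have := h1.inv_right.mul_right (root_U h hai hsq hy)
    rwa [inv_mul_cancel_left] at this
  have hwU : ∀ a ∈ (S : Subgroup G), Inv (a * a) → ∀ y ∈ U (a * a), ∀ s ∈ (S : Subgroup G), Commute y s := by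
    intro a ha hai y hy s hs
    by_cases hs2 : s * s = 1
    · exact hrU a ha hai y hy s hs hs2
    by_cases hy1 : y = 1
    · rw [hy1]; exact Commute.one_left s
    obtain ⟨r, hr, hri⟩ := exists_root S.isPGroup' hs hs2
    have hrS : r ∈ (S : Subgroup G) := (zpowers_le.2 hs) hr
    have hyw : Commute y (r * r) := hrU a ha hai y hy (r * r) (mul_mem hrS hrS) hri.1
    have h1 : y * s * y⁻¹ ∈ zpowers s := (nz_root h hri (mul_mem hr hr) y).2 hyw
    have h2 : s * y * s⁻¹ ∈ zpowers y := (U_nz h hai hy hy1).2 (hab s hs _ (mul_mem ha ha))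
    have h3 : y * s * y⁻¹ * s⁻¹ ∈ zpowers y := by
      rw [show y * s * y⁻¹ * s⁻¹ = y * (s * y * s⁻¹)⁻¹ by group]
      exact mul_mem (mem_zpowers y) (inv_mem h2)
    have h4 := mem_twoGroup_U h S.isPGroup' hai
      ((zpowers_le.2 hs) (mul_mem h1 (inv_mem (mem_zpowers s)))) ((zpowers_le.2 hy) h3)
    exact conj_iff_commute.1 (mul_inv_eq_one.1 h4)
  have hallU : ∀ e ∈ (S : Subgroup G), Inv e → ∀ y ∈ U e, ∀ s ∈ (S : Subgroup G), Commute y s := by
    intro e he hei y hy s hs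
    by_cases hy1 : y = 1
    · rw [hy1]; exact Commute.one_left s
    by_cases hex : ∃ a ∈ (S : Subgroup G), Inv (a * a) ∧ ∃ y' ∈ U (a * a), y' ≠ 1
    · obtain ⟨a, ha, hai, y', hy', hy'1⟩ := hex
      refine hwU a ha hai y ?_ s hs
      have hy'e : y' ∈ U e :=
        (mem_U h hei).2 ⟨hrU a ha hai y' hy' e he hei.1, ((mem_U h hai).1 hy').2⟩
      refine (mem_U h hai).2 ⟨?_, ((mem_U h hei).1 hy).2⟩
      exact (U_nz h hai hy' hy'1).1 ((U_nz h hei hy'e hy'1).2 ((mem_U h hei).1 hy).1)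
    exfalso
    push_neg at hex
    have hyodd : ∀ y' ∈ zpowers y, Odd (orderOf y') := fun y' hy' =>
      ((mem_U h hei).1 hy).2.of_dvd_nat (orderOf_dvd_of_mem_zpowers hy')
    haveI := Fintype.ofFinite G
    have inv_of_root : ∀ a ∈ (S : Subgroup G), Inv (a * a) → a * a * y * (a * a)⁻¹ = y⁻¹ := by
      intro a ha hai
      refine Char.BSW.fpf_inverts hai.1 ((nz_iff_mem_normalizer _ _).1
        ((U_nz h hei hy hy1).2 (hab _ (mul_mem ha ha) e he))) (fun y' hy' hfix => ?_) y (mem_zpowers y)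
      exact hex a ha hai y' ((mem_U h hai).2 ⟨(conj_iff_commute.1 hfix).symm, hyodd y' hy'⟩)
    have hcx : c * x * (c * x) = z * v := by
      rw [show c * x * (c * x) = c * (x * c) * x by group, (hcc x D.xS).eq,
        show c * (c * x) * x = (c * c) * (x * x) by group, D.cc, D.xx]
    have hzvI : Inv (z * v) := D.zI.mul D.vI (D.zc v D.vS).symm (Ne.symm D.vz)
    have h1 : z * y * z⁻¹ = y⁻¹ := by simpa [D.cc] using inv_of_root c D.cS (D.cc.symm ▸ D.zI)
    have h2 : v * y * v⁻¹ = y⁻¹ := by simpa [D.xx] using inv_of_root x D.xS (D.xx.symm ▸ D.vI)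
    have h3 : z * v * y * (z * v)⁻¹ = y := by
      rw [show z * v * y * (z * v)⁻¹ = z * (v * y * v⁻¹) * z⁻¹ by group, h2,
        show z * y⁻¹ * z⁻¹ = (z * y * z⁻¹)⁻¹ by group, h1, inv_inv]
    exact hy1 (hex (c * x) (mul_mem D.cS D.xS) (hcx.symm ▸ hzvI) y
      ((mem_U h (hcx.symm ▸ hzvI)).2 ⟨hcx.symm ▸ (conj_iff_commute.1 h3).symm, ((mem_U h hei).1 hy).2⟩))
  have hiac : InvAb.IAC G := iac_of h S hab hallU
  have hnc : ¬ IsCyclic ↥(S : Subgroup G) := by
    intro hcyc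
    obtain ⟨g, hg⟩ := (Subgroup.isCyclic_iff_exists_zpowers_eq_top (S : Subgroup G)).1 hcyc
    exact D.vz (inv_unique (hg ▸ D.vS) (hg ▸ D.zS) D.vI D.zI)
  have hnn : ¬ (S : Subgroup G).Normal := fun hn => by
    rcases hn.eq_bot_or_eq_top with e | e
    · exact D.zI.2 (Subgroup.mem_bot.1 (e ▸ D.zS))
    · obtain ⟨a, b, hab'⟩ := hna
      exact hab' (hab a (e ▸ mem_top a) b (e ▸ mem_top b)).eq
  obtain ⟨F, _, _, A, _, _, hchar, hodd, ⟨φ⟩⟩ := InvAb.exists_iso hiac S hnc hnn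
  haveI := hchar
  have hc4 : φ c * φ c * (φ c * φ c) = 1 := by
    rw [← map_mul, ← map_mul, D.cc, D.zI.1, map_one]
  have ha1 : (φ c).2 = 1 := by
    have h4 : (φ c).2 ^ 4 = 1 := by
      have := congrArg Prod.snd hc4
      simpa [pow_succ, mul_assoc] using this
    exact orderOf_eq_one_iff.1 (Nat.eq_one_of_dvd_coprimes
      (((Nat.coprime_two_right.2 hodd).pow_right 2)) (orderOf_dvd_natCard _) (orderOf_dvd_of_pow_eq_one h4))
  obtain ⟨M, hM⟩ : ∃ M : Matrix.SpecialLinearGroup (Fin 2) F, M = (φ c).1 := ⟨_, rfl⟩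
  have hM4 : M * M * (M * M) = 1 := hM ▸ congrArg Prod.fst hc4
  have hM2 : M * M = 1 := by
    obtain ⟨p, hp⟩ : ∃ p, p = M.1 0 0 := ⟨_, rfl⟩
    obtain ⟨q, hq⟩ : ∃ q, q = M.1 0 1 := ⟨_, rfl⟩
    obtain ⟨r, hr⟩ : ∃ r, r = M.1 1 0 := ⟨_, rfl⟩
    obtain ⟨w, hw⟩ : ∃ w, w = M.1 1 1 := ⟨_, rfl⟩
    have hdet : p * w - q * r = 1 := by
      have := M.2
      rw [Matrix.det_fin_two] at this
      rw [hp, hq, hr, hw]; exact this
    have h2 : (2 : F) = 0 := CharTwo.two_eq_zero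
    have e00 := congrArg (fun N : Matrix.SpecialLinearGroup (Fin 2) F => N.1 0 0) hM4
    have e11 := congrArg (fun N : Matrix.SpecialLinearGroup (Fin 2) F => N.1 1 1) hM4
    simp only [Matrix.SpecialLinearGroup.coe_mul, Matrix.SpecialLinearGroup.coe_one, Matrix.mul_apply,
      Fin.sum_univ_two, Matrix.one_apply_eq, ← hp, ← hq, ← hr, ← hw] at e00 e11
    have hτ : (p + w) ^ 4 = 0 := by
      linear_combination e00 - e11 +
        (2 * p ^ 3 * w + 3 * p ^ 2 * w ^ 2 + 2 * p * w ^ 3 + w ^ 4 - q * r * p ^ 2 + q * r * w ^ 2) * h2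
    have hwp : w = p := by
      have := (pow_eq_zero_iff (n := 4) (by norm_num)).1 hτ
      linear_combination this - p * h2
    have hqr : q * r = p * p + 1 := by
      rw [hwp] at hdet
      linear_combination -hdet - h2
    ext i j
    fin_cases i <;> fin_cases j <;>
      simp only [Matrix.SpecialLinearGroup.coe_mul, Matrix.SpecialLinearGroup.coe_one, Matrix.mul_apply,
        Fin.sum_univ_two, Fin.zero_eta, Fin.mk_one, Matrix.one_apply_eq, Matrix.one_apply_ne, ne_eq,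
        one_ne_zero, zero_ne_one, not_false_eq_true, ← hp, ← hq, ← hr, ← hw, hwp]
    · linear_combination hqr + p * p * h2
    · linear_combination p * q * h2
    · linear_combination p * r * h2
    · linear_combination hqr + p * p * h2
  refine D.zI.2 (φ.injective ?_)
  rw [map_one, ← D.cc, map_mul]
  exact Prod.ext (hM ▸ hM2 : (φ c).1 * (φ c).1 = 1) (by rw [Prod.snd_mul, ha1, mul_one]; rfl)

/-- All roots in the Sylow 2-subgroup have the same square. -/
theorem roots_unique (hna : ∃ a b : G, a * b ≠ b * a) (h : HCN G) (S : Sylow 2 G) {z c : G} (hz : Inv z)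
    (hcS : c ∈ (S : Subgroup G)) (hc : c * c = z) (hzc : ∀ s ∈ (S : Subgroup G), Commute s z) :
    ∀ x ∈ (S : Subgroup G), Inv (x * x) → x * x = z := by
  intro x hx hxi
  by_contra hne
  have D : Two (S : Subgroup G) z c (x * x) x := ⟨h, S.isPGroup', hz, hcS, hc, hzc, hxi, hx, rfl, hne⟩
  by_cases hcc : ∀ s ∈ (S : Subgroup G), Commute s c
  · exact abelian_contra hna h D hcc
  push_neg at hcc
  obtain ⟨s, hs, hsc⟩ := hcc
  have hxc : Commute x c := D.comm_c hx hxi hne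
  obtain ⟨B, hB⟩ : ∃ B, B = ((S : Subgroup G) ⊓ Subgroup.centralizer {c} : Subgroup G) := ⟨_, rfl⟩
  have hmB : ∀ b, b ∈ B ↔ b ∈ (S : Subgroup G) ∧ Commute b c := fun b => by
    rw [hB, mem_inf, mem_centralizer_singleton_iff]; exact Iff.rfl
  have hout : ∀ s' ∈ (S : Subgroup G), s' ∉ B → s' * s' = 1 := fun s' hs' hn =>
    by_contra fun h2 => hn ((hmB s').2 ⟨hs', D.comm_of_order hs' h2⟩)
  refine dih_contra hna h S B (fun b hb => ((hmB b).1 hb).1) (fun s' hs' hn => ⟨hout s' hs' hn, fun b hb => ?_⟩)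
    hs (fun e => hsc ((hmB s).1 e).2) ?_ hxi hz hne ((hmB _).2 ⟨mul_mem hx hx, hxc.mul_left hxc⟩)
    ((hmB _).2 ⟨hc ▸ mul_mem hcS hcS, (root_commute hc).symm⟩) ((hmB c).2 ⟨hcS, Commute.refl c⟩)
    (by rw [hc]; exact hz.2)
  · have hsb : s' * b * (s' * b) = 1 := hout _ (mul_mem hs' ((hmB b).1 hb).1) fun e => hn (by
      have := mul_mem e (inv_mem hb)
      rwa [mul_inv_cancel_right] at this)
    rw [show s' * b * (s' * b) = (s' * b * s') * b by group] at hsb
    rw [inv_eq_of_mul_eq_one_right (hout s' hs' hn)]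
    exact eq_inv_of_mul_eq_one_left hsb
  · intro p hp q hq hpn hqn
    refine (hmB _).2 ⟨mul_mem hp hq, conj_iff_commute.1 ?_⟩
    have key : ∀ p ∈ (S : Subgroup G), p ∉ B → p * c * p⁻¹ = c * z := fun p hp hpn =>
      (root_cases h hz hc (hzc p hp)).resolve_left fun e => hpn ((hmB p).2 ⟨hp, conj_iff_commute.1 e⟩)
    rw [show p * q * c * (p * q)⁻¹ = p * (q * c * q⁻¹) * p⁻¹ by group, key q hq hqn,
      show p * (c * z) * p⁻¹ = (p * c * p⁻¹) * (p * z * p⁻¹) by group, key p hp hpn,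
      conj_iff_commute.2 (hzc p hp), mul_assoc, hz.1, mul_one]

end rooted

/-- A Sylow 2-subgroup with an element of order four is dihedral. -/
theorem sylow_shape (hna : ∃ a b : G, a * b ≠ b * a) (h : HCN G) (S : Sylow 2 G) {a : G}
    (ha : a ∈ (S : Subgroup G)) (ha4 : a * a ≠ 1) :
    ∃ (B : Subgroup G) (z c t : G), IsCyclic ↥B ∧ B ≤ (S : Subgroup G) ∧ Inv z ∧ c ∈ B ∧ c * c = z ∧
      (∀ s ∈ (S : Subgroup G), Commute s z) ∧ t ∈ (S : Subgroup G) ∧ t ∉ B ∧
      (∀ s ∈ (S : Subgroup G), s ∉ B → s * s = 1 ∧ ∀ b ∈ B, s * b * s⁻¹ = b⁻¹) ∧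
      (∀ p ∈ (S : Subgroup G), ∀ q ∈ (S : Subgroup G), p ∉ B → q ∉ B → p * q ∈ B) := by
  classical
  haveI : Fact (Nat.Prime 2) := ⟨Nat.prime_two⟩
  obtain ⟨z, c, hz, hcS, hc, hzc⟩ := exists_central_root h S.isPGroup' ha ha4
  have huniq := roots_unique hna h S hz hcS hc hzc
  have hzS : z ∈ (S : Subgroup G) := hc ▸ mul_mem hcS hcS
  obtain ⟨g, hg, hgz⟩ := exists_move hna hz S hzS
  obtain ⟨t, ht⟩ : ∃ t, t = g * z * g⁻¹ := ⟨_, rfl⟩
  rw [← ht] at hg hgz
  have htI : Inv t := ht ▸ hz.conj g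
  obtain ⟨r, hr⟩ : ∃ r, r = g * c * g⁻¹ := ⟨_, rfl⟩
  have hrr : r * r = t := by rw [hr, ht, ← hc]; group
  have hflip : ∀ c' ∈ (S : Subgroup G), c' * c' = z → t * c' * t⁻¹ = c' * z := by
    intro c' hc'S hc'
    rcases pair h hz htI (Ne.symm hgz) (hzc t hg).symm hc' hrr with e | ⟨e, -⟩
    swap
    · exact e
    exfalso
    have hA : IsPGroup 2 (zpowers c' ⊔ zpowers r : Subgroup G) :=
      IsPGroup.to_sup_of_normal_right' (IsPGroup.of_card (n := 2) (by rw [Nat.card_zpowers, root_orderOf hz hc']; rfl))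
        (IsPGroup.of_card (n := 2) (by rw [Nat.card_zpowers, root_orderOf htI hrr]; rfl))
        (zpowers_le.2 ((nz_iff_mem_normalizer c' r).1 (by rw [Nz, conj_iff_commute.2 e]; exact mem_zpowers r)))
    obtain ⟨k, hk⟩ := exists_conj_sylow hA S
    have key : ∀ w u, w ∈ (zpowers c' ⊔ zpowers r : Subgroup G) → w * w = u → Inv u → k * u * k⁻¹ = z := by
      intro w u hw hwu hu
      have hsq : k * w * k⁻¹ * (k * w * k⁻¹) = k * u * k⁻¹ := by rw [← hwu]; group
      rw [← hsq]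
      exact huniq _ (hk w hw) (hsq.symm ▸ hu.conj k)
    have := (key r t (le_sup_right (α := Subgroup G) (mem_zpowers r)) hrr htI).trans
      (key c' z (le_sup_left (α := Subgroup G) (mem_zpowers c')) hc' hz).symm
    exact hgz (mul_left_cancel (mul_right_cancel this))
  have htinv : ∀ b ∈ (S : Subgroup G), b * b ≠ 1 → t * b * t⁻¹ = b⁻¹ := by
    intro b hb hb2
    obtain ⟨r₀, hr₀, hr₀i⟩ := exists_root S.isPGroup' hb hb2
    have hr₀z : r₀ * r₀ = z := huniq _ ((zpowers_le.2 hb) hr₀) hr₀i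
    have htb : t * b * t⁻¹ ∈ zpowers b :=
      (nz_root h hz (hr₀z ▸ mul_mem hr₀ hr₀) t).2 (hzc t hg)
    obtain ⟨w, hw⟩ : ∃ w, w = t * b := ⟨_, rfl⟩
    have hwS : w ∈ (S : Subgroup G) := hw ▸ mul_mem hg hb
    by_cases hw2 : w * w = 1
    · rw [eq_inv_iff_mul_eq_one, htI.inv, ← hw2, hw]; group
    exfalso
    by_cases hw4 : w * w * (w * w) = 1
    · have hwz : w * w = z := huniq w hwS ⟨hw4, hw2⟩
      have e := hflip w hwS hwz
      have h3 : t * w * t⁻¹ = w⁻¹ := by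
        rw [e, eq_inv_iff_mul_eq_one, mul_assoc, (hzc w hwS).symm.eq, ← mul_assoc, hwz, hz.1]
      rw [hw, htI.inv, show t * (t * b) * t = (t * t) * (b * t) by group, htI.1, one_mul, mul_inv_rev,
        htI.inv] at h3
      exact hb2 (by rw [mul_eq_one_iff_eq_inv]; exact mul_right_cancel h3)
    obtain ⟨q, hq, hqi⟩ := exists_root S.isPGroup' hwS hw2
    obtain ⟨i, hi⟩ := mem_zpowers_iff.1 hq
    have hqz : q * q = z := huniq q ((zpowers_le.2 hwS) hq) hqi
    rcases Int.even_or_odd i with ⟨m, hm⟩ | ⟨m, hm⟩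
    · have hqb : q ∈ zpowers b := by
        rw [← hi, hm, zpow_add, ← (Commute.refl w).mul_zpow]
        refine zpow_mem ?_ m
        rw [hw, show t * b * (t * b) = t * b * t * b by group]
        have := mul_mem htb (mem_zpowers b)
        rwa [htI.inv] at this
      obtain ⟨l, hl⟩ := mem_zpowers_iff.1 hqb
      have h1 : Commute q b := hl ▸ Commute.zpow_self b l
      have h2 : Commute q (t * b) := hw ▸ hi ▸ Commute.zpow_self w i
      have h3 := h2.mul_right h1.inv_right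
      rw [mul_inv_cancel_right] at h3
      have h4 := hflip q ((zpowers_le.2 hwS) hq) hqz
      rw [conj_iff_commute.2 h3.symm] at h4
      exact hz.2 (mul_eq_left.1 h4.symm)
    · apply hw4
      have hord : orderOf w ∣ orderOf q := by
        obtain ⟨j, hj⟩ := IsPGroup.iff_orderOf.1 S.isPGroup' ⟨w, hwS⟩
        rw [← Subgroup.orderOf_coe] at hj
        change orderOf w = _ at hj
        have hcop : Nat.Coprime i.natAbs (orderOf w) := by
          rw [hj]
          refine Nat.Coprime.pow_right _ (Nat.coprime_two_right.2 ?_)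
          rw [Int.natAbs_odd, hm]; exact odd_two_mul_add_one m
        rw [← hi]
        rcases Int.natAbs_eq i with e | e
        · rw [e, zpow_natCast, orderOf_pow' _ (by omega), Nat.Coprime.gcd_eq_one hcop.symm, Nat.div_one]
        · rw [e, zpow_neg, orderOf_inv, zpow_natCast, orderOf_pow' _ (by omega),
            Nat.Coprime.gcd_eq_one hcop.symm, Nat.div_one]
      have h4 : w ^ 4 = 1 := orderOf_dvd_iff_pow_eq_one.1 (root_orderOf hqi rfl ▸ hord)
      simpa [pow_succ, mul_assoc] using h4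
  obtain ⟨B, hB⟩ : ∃ B, B = ((S : Subgroup G) ⊓ Subgroup.centralizer {c} : Subgroup G) := ⟨_, rfl⟩
  have hmB : ∀ b, b ∈ B ↔ b ∈ (S : Subgroup G) ∧ Commute b c := fun b => by
    rw [hB, mem_inf, mem_centralizer_singleton_iff]; exact Iff.rfl
  have hflipc : ∀ p ∈ (S : Subgroup G), p ∉ B → p * c * p⁻¹ = c * z := fun p hp hpn =>
    (root_cases h hz hc (hzc p hp)).resolve_left fun e => hpn ((hmB p).2 ⟨hp, conj_iff_commute.1 e⟩)
  have htB : t ∉ B := fun e => by
    have h1 := hflip c hcS hc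
    rw [conj_iff_commute.2 ((hmB t).1 e).2] at h1
    exact hz.2 (mul_eq_left.1 h1.symm)
  have hidx : ∀ p ∈ (S : Subgroup G), ∀ q ∈ (S : Subgroup G), p ∉ B → q ∉ B → p * q ∈ B := by
    intro p hp q hq hpn hqn
    refine (hmB _).2 ⟨mul_mem hp hq, conj_iff_commute.1 ?_⟩
    rw [show p * q * c * (p * q)⁻¹ = p * (q * c * q⁻¹) * p⁻¹ by group, hflipc q hq hqn,
      show p * (c * z) * p⁻¹ = (p * c * p⁻¹) * (p * z * p⁻¹) by group, hflipc p hp hpn,
      conj_iff_commute.2 (hzc p hp), mul_assoc, hz.1, mul_one]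
  have hBinv : ∀ b ∈ B, t * b * t⁻¹ = b⁻¹ := by
    intro b hb
    obtain ⟨hbS, hbc⟩ := (hmB b).1 hb
    by_cases hb2 : b * b = 1
    · have hsq : b * c * (b * c) = z := by
        rw [show b * c * (b * c) = b * (c * b) * c by group, ← hbc.eq,
          show b * (b * c) * c = b * b * (c * c) by group, hb2, one_mul, hc]
      have h1 := hflip _ (mul_mem hbS hcS) hsq
      rw [show t * (b * c) * t⁻¹ = (t * b * t⁻¹) * (t * c * t⁻¹) by group, hflip c hcS hc,
        show b * c * z = b * (c * z) by group] at h1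
      rw [inv_eq_of_mul_eq_one_right hb2]
      exact mul_right_cancel h1
    · exact htinv b hbS hb2
  have hout2 : ∀ p ∈ (S : Subgroup G), p ∉ B → p * p = 1 := by
    intro p hp hpn
    by_contra hp2
    have h1 := hBinv _ (hidx t hg p hp htB hpn)
    have h2 := htinv p hp hp2
    rw [htI.inv] at h1 h2
    rw [show t * (t * p) * t = (t * t) * (p * t) by group, htI.1, one_mul, mul_inv_rev, htI.inv] at h1
    exact hp2 (mul_eq_one_iff_eq_inv.2 (mul_right_cancel h1))
  have hout : ∀ s ∈ (S : Subgroup G), s ∉ B → s * s = 1 ∧ ∀ b ∈ B, s * b * s⁻¹ = b⁻¹ := by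
    intro p hp hpn
    refine ⟨hout2 p hp hpn, fun b hb => ?_⟩
    have hsb : p * b * (p * b) = 1 := hout2 _ (mul_mem hp ((hmB b).1 hb).1) fun e => hpn (by
      have := mul_mem e (inv_mem hb)
      rwa [mul_inv_cancel_right] at this)
    rw [show p * b * (p * b) = (p * b * p) * b by group] at hsb
    rw [inv_eq_of_mul_eq_one_right (hout2 p hp hpn)]
    exact eq_inv_of_mul_eq_one_left hsb
  refine ⟨B, z, c, t, ?_, fun b hb => ((hmB b).1 hb).1, hz, (hmB c).2 ⟨hcS, Commute.refl c⟩, hc, hzc, hg, htB,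
    hout, hidx⟩
  have hBc : ∀ b ∈ B, ∀ b' ∈ B, b * b' = b' * b := fun b hb b' hb' => by
    have h1 := hBinv (b * b') (mul_mem hb hb')
    rw [show t * (b * b') * t⁻¹ = (t * b * t⁻¹) * (t * b' * t⁻¹) by group, hBinv b hb, hBinv b' hb',
      ← mul_inv_rev, inv_inj] at h1
    exact h1.symm
  obtain ⟨w, -, hw⟩ := Solv.abelian_cyclic_of_unique (p := 2)
    (show IsPGroup 2 ↥B from S.isPGroup'.to_le fun b hb => ((hmB b).1 hb).1) (fun p q hp hq hq1 => by
      by_cases hp1 : p = 1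
      · rw [hp1]; exact Subgroup.one_mem _
      have hpq : (p : G) = q := by
        by_contra hne
        exact dih_contra hna h S B (fun b hb => ((hmB b).1 hb).1) hout hg htB hidx
          (show Inv (p : G) from ⟨by rw [← pow_two]; exact congrArg Subtype.val hp, fun e => hp1 (Subtype.ext e)⟩)
          (show Inv (q : G) from ⟨by rw [← pow_two]; exact congrArg Subtype.val hq, fun e => hq1 (Subtype.ext e)⟩)
          hne p.2 q.2 ((hmB c).2 ⟨hcS, Commute.refl c⟩) (by rw [hc]; exact hz.2)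
      rw [Subtype.ext hpq]
      exact mem_zpowers q) ⊤ (fun p _ q _ => Subtype.ext (hBc p p.2 q q.2))
  refine ⟨⟨w, fun b => ?_⟩⟩
  have := mem_top (G := ↥B) b
  rw [hw] at this
  exact this

end Cfsg.Agent.Classical.CyclicNormalizer
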